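import Groth.Agent.Henselization.IndEtale
import Mathlib.Algebra.Category.Ring.FinitePresentation
import Mathlib.Algebra.Category.Ring.Under.Limits
import Mathlib.CategoryTheory.Limits.Preserves.Over

/-!
Finitely presented algebras mapped to the tensor product with a strict henselization descend to a stage.
-/

set_option autoImplicit false
set_option backward.isDefEq.respectTransparency false
universe u

open CategoryTheory CategoryTheory.Limits Groth.Agent.Henselization
open scoped TensorProduct

noncomputable section

namespace Groth.Agent.QuotEtaleLib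

variable {C : Type u} [CommRing C] {K : Type u} [Field K] [Algebra C K]

/-- The map from a stage to the colimit. -/
def ιS (X : IdxCat C K) : X.idx.S →ₐ[C] Hz C K :=
  (ι X.idx).comp (IsScalarTower.toAlgHom C X.idx.S X.idx.L)

theorem εH_ιS (X : IdxCat C K) (x : X.idx.S) : εH C K (ιS X x) = X.idx.pt x :=
  (εH_ι _ _).trans (X.idx.ε_algebraMap x)

theorem ιS_hom {X Y : IdxCat C K} (f : X ⟶ Y) (x : X.idx.S) : ιS Y (f.1 x) = ιS X x :=
  RingHom.congr_fun (congrArg (fun m => CommRingCat.Hom.hom (CommaMorphism.right m)) ((cocone C K).w f)) x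

variable (A : Type u) [CommRing A] [Algebra C A]

/-- Base change of the map from a stage to the colimit. -/
def ιT (X : IdxCat C K) : A ⊗[C] X.idx.S →ₐ[A] A ⊗[C] Hz C K :=
  Algebra.TensorProduct.map (AlgHom.id A A) (ιS X)

theorem ιT_tmul (X : IdxCat C K) (a : A) (x : X.idx.S) : ιT A X (a ⊗ₜ x) = a ⊗ₜ ιS X x := rfl

variable (C K) in
/-- The diagram of base changes. -/
def diagT : IdxCat C K ⥤ CommRingCat.{u} where
  obj X := CommRingCat.of (A ⊗[C] X.idx.S)
  map f := CommRingCat.ofHom (Algebra.TensorProduct.map (AlgHom.id A A) f.1).toRingHom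
  map_id X := CommRingCat.hom_ext (RingHom.ext fun z =>
    AlgHom.congr_fun (Algebra.TensorProduct.map_id (R := C) (S := A) (A := A) (B := X.idx.S)) z)
  map_comp f g := CommRingCat.hom_ext (RingHom.ext fun z =>
    AlgHom.congr_fun (Algebra.TensorProduct.map_id_comp (R := C) (S := A) (A := A) g.1 f.1) z)

variable (C K) in
/-- The cocone of base changes. -/
def coconeT : Cocone (diagT C K A) where
  pt := CommRingCat.of (A ⊗[C] Hz C K)
  ι :=
    { app X := CommRingCat.ofHom (ιT A X).toRingHom
      naturality X Y f := CommRingCat.hom_ext (RingHom.ext fun z => by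
        show ιT A Y (Algebra.TensorProduct.map (AlgHom.id A A) f.1 z) = ιT A X z
        induction z using TensorProduct.induction_on with
        | zero => rw [map_zero, map_zero, map_zero]
        | tmul a x => exact congrArg (fun y => a ⊗ₜ[C] y) (ιS_hom f x)
        | add z w hz hw => rw [map_add, map_add, map_add, hz, hw]) }

/-- Tensor products for two algebra structures with the same structure map. -/
def congrAlg {S : Type u} [CommRing S] (i j : Algebra C S)
    (h : ∀ c, (letI := i; algebraMap C S c) = (letI := j; algebraMap C S c)) :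
    (letI := i; A ⊗[C] S) ≃+* (letI := j; A ⊗[C] S) := by
  cases Algebra.algebra_ext i j h
  exact RingEquiv.refl _

theorem congrAlg_tmul {S : Type u} [CommRing S] (i j : Algebra C S)
    (h : ∀ c, (letI := i; algebraMap C S c) = (letI := j; algebraMap C S c)) (a : A) (x : S) :
    congrAlg A i j h (letI := i; a ⊗ₜ[C] x) = (letI := j; a ⊗ₜ[C] x) := by
  cases Algebra.algebra_ext i j h
  rfl

variable (C K) in
/-- The diagram as a composite with the base change functor. -/
def diagIso : diagT C K A ≅
    diagram C K ⋙ CommRingCat.tensorProd (CommRingCat.of C) (CommRingCat.of A) ⋙ Under.forget (CommRingCat.of A) :=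
  NatIso.ofComponents (fun X => (congrAlg A (instAlgebraS X.idx)
      (CommRingCat.instAlgebraCarrierRight ((diagram C K).obj X)) fun _ => rfl).toCommRingCatIso)
    fun {X Y} f => CommRingCat.hom_ext (RingHom.ext fun z => by
      induction z using TensorProduct.induction_on with
      | zero => rw [map_zero, map_zero]
      | tmul a x =>
        refine (congrAlg_tmul A _ _ _ a (f.1 x)).trans (Eq.symm ?_)
        exact congrArg _ (congrAlg_tmul A (instAlgebraS X.idx)
          (CommRingCat.instAlgebraCarrierRight ((diagram C K).obj X)) (fun _ => rfl) a x)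
      | add z w hz hw => rw [map_add, map_add, hz, hw])

variable (C K) in
/-- Base change commutes with the colimit. -/
def isColimitT : IsColimit (coconeT C K A) :=
  haveI : PreservesColimit (diagram C K) (CommRingCat.tensorProd (CommRingCat.of C) (CommRingCat.of A)) :=
    preservesColimit_of_natIso _ (CommRingCat.tensorProdIsoPushout (CommRingCat.of C) (CommRingCat.of A)).symm
  IsColimit.ofIsoColimit ((IsColimit.precomposeHomEquiv (diagIso C K A) _).symm
      (isColimitOfPreserves (Under.forget (CommRingCat.of A))
        (isColimitOfPreserves (CommRingCat.tensorProd (CommRingCat.of C) (CommRingCat.of A)) (isColimitCocone C K))))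
    (Cocone.ext ((congrAlg A (instAlgebraHz C K)
        (CommRingCat.instAlgebraCarrierRight (cocone C K).pt) fun _ => rfl).toCommRingCatIso).symm
      fun X => CommRingCat.hom_ext (RingHom.ext fun z => by
        induction z using TensorProduct.induction_on with
        | zero => rw [map_zero, map_zero]
        | tmul a x =>
          show (congrAlg A _ _ _).symm _ = a ⊗ₜ ιS X x
          rw [RingEquiv.symm_apply_eq, congrAlg_tmul]
          exact congrArg _ (congrAlg_tmul A (instAlgebraS X.idx)
            (CommRingCat.instAlgebraCarrierRight ((diagram C K).obj X)) (fun _ => rfl) a x)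
        | add z w hz hw => rw [map_add, map_add, hz, hw]))

/-- A map from a finitely presented algebra to the colimit comes from a stage. -/
theorem exists_stage {A' : Type u} [CommRing A'] [Algebra A A'] [Algebra.FinitePresentation A A']
    (τ : A' →ₐ[A] A ⊗[C] Hz C K) :
    ∃ (X : IdxCat C K) (τ₁ : A' →ₐ[A] A ⊗[C] X.idx.S), (ιT A X).comp τ₁ = τ := by
  let α : (Functor.const (IdxCat C K)).obj (CommRingCat.of A) ⟶ diagT C K A :=
    { app X := CommRingCat.ofHom (algebraMap A (A ⊗[C] X.idx.S))
      naturality X Y f := CommRingCat.hom_ext (RingHom.ext fun a =>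
        ((Algebra.TensorProduct.map (AlgHom.id A A) f.1).commutes a).symm) }
  obtain ⟨X, g', h1, h2⟩ := RingHom.EssFiniteType.exists_eq_comp_ι_app_of_isColimit (CommRingCat.of A)
    (diagT C K A) α (CommRingCat.ofHom (algebraMap A A')) (coconeT C K A) (isColimitT C K A)
    (RingHom.finitePresentation_algebraMap.2 ‹_›) (CommRingCat.ofHom τ.toRingHom) (fun X =>
      CommRingCat.hom_ext (RingHom.ext fun a => (τ.commutes a).trans ((ιT A X).commutes a).symm))
  refine ⟨X, { toRingHom := g'.hom, commutes' := fun a => RingHom.congr_fun (congrArg CommRingCat.Hom.hom h1) a },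
    AlgHom.ext fun z => (RingHom.congr_fun (congrArg CommRingCat.Hom.hom h2) z).symm⟩

/-- Two maps from a finitely generated algebra equal in the colimit are equal at a stage. -/
theorem exists_stage_eq {A₀ A' : Type u} [CommRing A₀] [CommRing A'] [Algebra A₀ A'] [Algebra.FiniteType A₀ A']
    (t : A₀ →+* A) (X : IdxCat C K) (a b : A' →+* A ⊗[C] X.idx.S)
    (ha : ∀ z, a (algebraMap A₀ A' z) = t z ⊗ₜ 1) (hb : ∀ z, b (algebraMap A₀ A' z) = t z ⊗ₜ 1)
    (h : ∀ z, ιT A X (a z) = ιT A X (b z)) :
    ∃ (Y : IdxCat C K) (f : X ⟶ Y), ∀ z, Algebra.TensorProduct.map (AlgHom.id A A) f.1 (a z) =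
      Algebra.TensorProduct.map (AlgHom.id A A) f.1 (b z) := by
  let α : (Functor.const (IdxCat C K)).obj (CommRingCat.of A₀) ⟶ diagT C K A :=
    { app X := CommRingCat.ofHom ((algebraMap A (A ⊗[C] X.idx.S)).comp t)
      naturality X Y f := CommRingCat.hom_ext (RingHom.ext fun z =>
        ((Algebra.TensorProduct.map (AlgHom.id A A) f.1).commutes (t z)).symm) }
  obtain ⟨Y, f, g, e⟩ := RingHom.EssFiniteType.exists_comp_map_eq_of_isColimit (CommRingCat.of A₀)
    (diagT C K A) α (CommRingCat.ofHom (algebraMap A₀ A')) (coconeT C K A) (isColimitT C K A)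
    ((RingHom.finiteType_algebraMap.2 ‹_›).essFiniteType)
    (CommRingCat.ofHom a) (CommRingCat.hom_ext (RingHom.ext ha))
    (CommRingCat.ofHom b) (CommRingCat.hom_ext (RingHom.ext hb))
    (CommRingCat.hom_ext (RingHom.ext h))
  refine ⟨IsFiltered.coeq f g, f ≫ IsFiltered.coeqHom f g, fun z => ?_⟩
  have e' := congrArg (fun m : CommRingCat.of A' ⟶ (diagT C K A).obj Y =>
    (m ≫ (diagT C K A).map (IsFiltered.coeqHom f g))) e
  simp only [Category.assoc, ← Functor.map_comp] at e'
  rw [← IsFiltered.coeq_condition f g] at e'
  exact RingHom.congr_fun (congrArg CommRingCat.Hom.hom e') z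

end Groth.Agent.QuotEtaleLib
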