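import Groth.Agent.QuotEtaleLib.Section
import Mathlib.RingTheory.RingHom.Etale
import Mathlib.RingTheory.Flat.Basic

/-!
The quotient of an étale map of groupoids, etale locally on the source quotient.
-/

set_option autoImplicit false
set_option backward.isDefEq.respectTransparency false
set_option linter.style.haveILetI false
universe u

open scoped TensorProduct

noncomputable section

namespace Groth.Agent.QuotEtaleLib

section Flat

variable {C C₀ M N C₁ : Type u} [CommRing C] [CommRing C₀] [CommRing M] [CommRing N] [CommRing C₁]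
  [Algebra C C₀] [Algebra C M] [Algebra C N] [Algebra C C₁] [Module.Flat C C₁]
  (i : C₀ →ₐ[C] M) (φ ψ : M →ₐ[C] N)

theorem map_injective_of_flat (hi : Function.Injective i) :
    Function.Injective (Algebra.TensorProduct.map i (AlgHom.id C C₁)) :=
  Module.Flat.rTensor_preserves_injective_linearMap i.toLinearMap hi

theorem mem_range_of_eq_of_flat (he : ∀ m, φ m = ψ m ↔ m ∈ Set.range i) (z : M ⊗[C] C₁)
    (hz : Algebra.TensorProduct.map φ (AlgHom.id C C₁) z = Algebra.TensorProduct.map ψ (AlgHom.id C C₁) z) :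
    ∃ y, Algebra.TensorProduct.map i (AlgHom.id C C₁) y = z := by
  have hex : Function.Exact i.toLinearMap (φ.toLinearMap - ψ.toLinearMap) := fun m => by
    rw [LinearMap.sub_apply, sub_eq_zero]; exact he m
  refine ((Module.Flat.rTensor_exact C₁ hex) z).1 ?_
  rw [LinearMap.rTensor_sub, LinearMap.sub_apply, sub_eq_zero]
  exact hz

/-- An element vanishing after flat base change to neighbourhoods of all points is zero. -/
theorem eq_zero_of_tensor {C' M' : Type u} [CommRing C'] [AddCommGroup M'] [Module C' M'] (z : M')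
    (h : ∀ p : Ideal C', p.IsPrime → ∃ (C₁ : Type u) (_ : CommRing C₁) (_ : Algebra C' C₁) (_ : Module.Flat C' C₁)
      (q : Ideal C₁), q.IsPrime ∧ q.comap (algebraMap C' C₁) = p ∧ z ⊗ₜ[C'] (1 : C₁) = 0) : z = 0 := by
  let I : Ideal C' := LinearMap.ker (LinearMap.toSpanSingleton C' M' z)
  suffices I = ⊤ by
    have h1 : (1 : C') ∈ I := this ▸ Submodule.mem_top
    have h2 : (1 : C') • z = 0 := h1
    rwa [one_smul] at h2
  by_contra hne
  obtain ⟨p, hp, hIp⟩ := Ideal.exists_le_maximal I hne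
  obtain ⟨C₁, _, _, _, q, hq, hqp, hz⟩ := h p hp.isPrime
  let j : (C' ⧸ I) →ₗ[C'] M' := Submodule.liftQ I (LinearMap.toSpanSingleton C' M' z) le_rfl
  have hj : Function.Injective j := LinearMap.ker_eq_bot.1 (Submodule.ker_liftQ_eq_bot _ _ _ le_rfl)
  have h1 : (Ideal.Quotient.mk I 1) ⊗ₜ[C'] (1 : C₁) = 0 := by
    refine Module.Flat.rTensor_preserves_injective_linearMap (M := C₁) j hj ?_
    rw [LinearMap.rTensor_tmul, map_zero]
    show ((1 : C') • z) ⊗ₜ[C'] (1 : C₁) = 0
    rw [one_smul, hz]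
  let θ : (C' ⧸ I) ⊗[C'] C₁ →ₐ[C'] C₁ ⧸ q := Algebra.TensorProduct.lift
    (Ideal.Quotient.liftₐ I (Algebra.ofId C' (C₁ ⧸ q)) fun a ha =>
      Ideal.Quotient.eq_zero_iff_mem.2 (show a ∈ q.comap (algebraMap C' C₁) from hqp.symm ▸ hIp ha))
    (Ideal.Quotient.mkₐ C' q) fun _ _ => Commute.all _ _
  have h2 : θ (1 : (C' ⧸ I) ⊗[C'] C₁) = 0 := by
    rw [Algebra.TensorProduct.one_def]
    exact (congrArg θ h1).trans (map_zero θ)
  rw [map_one] at h2
  haveI : Nontrivial (C₁ ⧸ q) := Ideal.Quotient.nontrivial_iff.2 hq.ne_top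
  exact one_ne_zero h2

end Flat

variable {A B A' B' : Type u} [CommRing A] [CommRing B] [CommRing A'] [CommRing B'] (D : Sq A B A' B')
  {C C' : Type u} [CommRing C] [CommRing C'] [Algebra C A] [Algebra C B] [Algebra C A'] [Algebra C B']
  [Algebra C C'] [Algebra C' A'] [IsScalarTower C C' A'] [Algebra A A'] [IsScalarTower C A A']
  (sA tA : A →ₐ[C] B) (sA' tA' : A' →ₐ[C] B')

set_option maxHeartbeats 1600000 in
/-- Over an étale neighbourhood the quotient map is étale and the square cartesian. -/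
theorem Sq.exists_chart [Algebra.IsIntegral C A] [Algebra.IsIntegral C B] [Algebra.IsIntegral C' A']
    (hs : ∀ a, sA a = D.s a) (ht : ∀ a, tA a = D.t a) (hs' : ∀ a, sA' a = D.s' a) (ht' : ∀ a, tA' a = D.t' a)
    (hf : ∀ a, algebraMap A A' a = D.f a)
    (hA : ∀ a : A, D.s a = D.t a ↔ a ∈ (algebraMap C A).range)
    (hA' : ∀ a : A', D.s' a = D.t' a ↔ a ∈ (algebraMap C' A').range)
    (hinj : Function.Injective (algebraMap C A)) (hinj' : Function.Injective (algebraMap C' A'))
    (𝔭 : Ideal C') [𝔭.IsPrime] :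
    ∃ (C₁ : Type u) (_ : CommRing C₁) (_ : Algebra C C₁) (_ : Algebra C' C₁) (_ : IsScalarTower C C' C₁)
      (_ : Algebra.Etale C C₁) (_ : Algebra.Etale C' C₁) (q : Ideal C₁), q.IsPrime ∧ q.comap (algebraMap C' C₁) = 𝔭 ∧
      ∀ (β : A ⊗[C] C₁ →+* A' ⊗[C'] C₁), (∀ a c, β (a ⊗ₜ c) = algebraMap A A' a ⊗ₜ c) → Function.Bijective β := by
  classical
  -- the geometric point
  obtain ⟨Q, -, hQ, hQp⟩ := Ideal.exists_ideal_over_prime_of_isIntegral 𝔭 (⊥ : Ideal A') (by
    rw [Ideal.comap_bot_of_injective _ hinj']; exact bot_le)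
  haveI := hQ
  let E₀ := AlgebraicClosure Q.ResidueField
  let a₀' : A' →+* E₀ := algebraMap A' E₀
  let k : Subfield E₀ := Subfield.closure (Set.range (algebraMap C E₀))
  letI : Algebra C k := ((algebraMap C E₀).codRestrict k fun c => Subfield.subset_closure ⟨c, rfl⟩).toAlgebra
  haveI : IsScalarTower C k E₀ := .of_algebraMap_eq fun _ => rfl
  have hk : ∀ x : k, ∃ c d : C, algebraMap C k d ≠ 0 ∧ x * algebraMap C k d = algebraMap C k c := by
    rintro ⟨x, hx⟩
    obtain ⟨y, hy, z, hz, rfl⟩ := Subfield.mem_closure_iff.1 hx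
    rw [show Set.range (algebraMap C E₀) = ((algebraMap C E₀).range : Set E₀) from rfl, Subring.closure_eq] at hy hz
    obtain ⟨c, rfl⟩ := hy
    obtain ⟨d, rfl⟩ := hz
    by_cases hd : algebraMap C E₀ d = 0
    · refine ⟨0, 1, by rw [map_one]; exact one_ne_zero, Subtype.ext ?_⟩
      show algebraMap C E₀ c / algebraMap C E₀ d * _ = _
      rw [hd, div_zero, zero_mul, map_zero]
      rfl
    · refine ⟨c, d, fun h => hd (congrArg Subtype.val h), Subtype.ext ?_⟩
      exact div_mul_cancel₀ _ hd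
  let E : IntermediateField k E₀ := algebraicClosure k E₀
  haveI : IsAlgClosed E := (algebraicClosure.isAlgClosure k E₀).isAlgClosed
  haveI : Algebra.IsAlgebraic k E := algebraicClosure.isAlgebraic k E₀
  have hxE : ∀ a : A, a₀' (algebraMap A A' a) ∈ E := fun a => by
    refine mem_algebraicClosure_iff'.2 ?_
    have hi : IsIntegral C (a₀' (algebraMap A A' a)) := by
      obtain ⟨p, hpm, hp⟩ := Algebra.IsIntegral.isIntegral (R := C) a
      refine ⟨p, hpm, ?_⟩
      have h := congrArg (a₀'.comp (algebraMap A A')) hp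
      rw [map_zero, Polynomial.hom_eval₂, RingHom.comp_assoc, ← IsScalarTower.algebraMap_eq C A A',
        show a₀' = algebraMap A' E₀ from rfl, ← IsScalarTower.algebraMap_eq C A' E₀] at h
      exact h
    exact hi.tower_top
  let x₀ : A →+* E := (a₀'.comp (algebraMap A A')).codRestrict E hxE
  haveI : Algebra.Etale A A' := RingHom.etale_algebraMap.1 (by
    rw [show algebraMap A A' = D.f from RingHom.ext hf]; exact D.etale)
  have hzE : ∀ z : A', a₀' z ∈ E := fun z => by
    refine mem_algebraicClosure_iff'.2 ?_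
    have hs : IsSeparable ↥E (a₀' z) := isSeparable_apply ↥E x₀ a₀' (fun _ => rfl) z
    exact isIntegral_trans (A := ↥E) _ hs.isIntegral
  let a₀ : A' →+* E := a₀'.codRestrict E hzE
  have h₀ : ∀ c, a₀ (D.f (algebraMap C A c)) = algebraMap C E c := fun c => Subtype.ext (by
    show a₀' (D.f (algebraMap C A c)) = algebraMap C E₀ c
    rw [← hf, ← IsScalarTower.algebraMap_apply C A A']
    exact (IsScalarTower.algebraMap_apply C A' E₀ c).symm)
  obtain ⟨C₁, _, _, _, ε, τ, r, hτf, hrg, hrs, hrt, hε⟩ :=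
    D.exists_nbhd (fun a ha => (hA a).1 ha) hk sA tA hs ht a₀ h₀
  -- the idempotent
  let fA : A →ₐ[C] A' := IsScalarTower.toAlgHom C A A'
  let F : A ⊗[C] C₁ →ₐ[C] A' ⊗[C] C₁ := Algebra.TensorProduct.map fA (AlgHom.id C C₁)
  let τC : A' →ₐ[C] A ⊗[C] C₁ :=
    { τ with
      commutes' := fun c => by
        show τ (algebraMap C A' c) = _
        rw [IsScalarTower.algebraMap_apply C A A', hf, hτf]
        rfl }
  let p : A' ⊗[C] C₁ →ₐ[C] A ⊗[C] C₁ :=
    Algebra.TensorProduct.lift τC Algebra.TensorProduct.includeRight fun _ _ => Commute.all _ _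
  have hp1 : ∀ z c, p (z ⊗ₜ c) = τ z * (1 ⊗ₜ c) := fun z c => Algebra.TensorProduct.lift_tmul _ _ _ _ _
  have hpF : ∀ w, p (F w) = w := fun w => by
    induction w using TensorProduct.induction_on with
    | zero => simp only [map_zero]
    | tmul a c =>
      rw [Algebra.TensorProduct.map_tmul, hp1, show fA a = algebraMap A A' a from rfl, hf, hτf,
        Algebra.TensorProduct.tmul_mul_tmul, mul_one, one_mul]
      rfl
    | add a b ha hb => simp only [map_add, ha, hb]
  obtain ⟨v, hpv, hv⟩ : ∃ v, p v = 1 ∧ ∀ z, p z = 0 → v * z = 0 := by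
    letI : Algebra (A ⊗[C] C₁) (A' ⊗[C] C₁) := F.toRingHom.toAlgebra
    haveI : IsScalarTower A (A ⊗[C] C₁) (A' ⊗[C] C₁) := .of_algebraMap_eq fun a =>
      (Algebra.TensorProduct.map_tmul fA (AlgHom.id C C₁) a 1).symm
    haveI : Algebra.FormallyUnramified A (A' ⊗[C] C₁) := Algebra.FormallyUnramified.comp A A' _
    haveI : Algebra.FormallyUnramified (A ⊗[C] C₁) (A' ⊗[C] C₁) :=
      Algebra.FormallyUnramified.of_restrictScalars A _ _
    haveI : Algebra.FiniteType A (A' ⊗[C] C₁) := Algebra.FiniteType.trans (S := A') inferInstance inferInstance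
    haveI : Algebra.FiniteType (A ⊗[C] C₁) (A' ⊗[C] C₁) := Algebra.FiniteType.of_restrictScalars_finiteType A _ _
    let σ : A' ⊗[C] C₁ →ₐ[A ⊗[C] C₁] (A ⊗[C] C₁) ⧸ (⊥ : Ideal (A ⊗[C] C₁)) :=
      (Ideal.Quotient.mkₐ _ ⊥).comp { p.toRingHom with commutes' := hpF }
    obtain ⟨v, hv1, hv2⟩ := Hensel.exists_annihilator_ker σ
    have hbot : ∀ x y : A ⊗[C] C₁, Ideal.Quotient.mk (⊥ : Ideal (A ⊗[C] C₁)) x = Ideal.Quotient.mk ⊥ y → x = y :=
      fun x y h => sub_eq_zero.1 (by simpa using Ideal.Quotient.eq.1 h)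
    refine ⟨v, hbot _ _ (hv1.trans (map_one _).symm), fun z hz => ?_⟩
    have h := hv2 z (show Ideal.Quotient.mk (⊥ : Ideal (A ⊗[C] C₁)) (p z) = 0 by rw [hz, map_zero])
    rwa [Ideal.map_bot, Ideal.mem_bot] at h
  have hvv : v * v = v := by
    have h := hv (1 - v) (by rw [map_sub, map_one, hpv, sub_self])
    rwa [mul_sub, mul_one, sub_eq_zero, eq_comm] at h
  have hker : ∀ z, p z = 0 → z ∈ Ideal.span {1 - v} := fun z hz =>
    Ideal.mem_span_singleton.2 ⟨z, by rw [sub_mul, one_mul, hv z hz, sub_zero]⟩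
  -- its invariance
  let rC : B' →+* B ⊗[C] C₁ := r
  have hrC : ∀ c, r (algebraMap C B' c) = algebraMap C (B ⊗[C] C₁) c := fun c => by
    have h1 : algebraMap C B' c = D.g (D.s (algebraMap C A c)) := by
      rw [← RingHom.comp_apply D.g, D.comm_s, RingHom.comp_apply, ← hf, ← IsScalarTower.algebraMap_apply, ← hs', AlgHom.commutes]
    rw [h1, hrg, ← hs, AlgHom.commutes]
    rfl
  let S₁ : B' ⊗[C] C₁ →ₐ[C] B ⊗[C] C₁ := Algebra.TensorProduct.lift ({ r with commutes' := hrC } : B' →ₐ[C] B ⊗[C] C₁)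
    Algebra.TensorProduct.includeRight fun _ _ => Commute.all _ _
  let gB : B →ₐ[C] B' :=
    { D.g with
      commutes' := fun c => by
        show D.g (algebraMap C B c) = _
        rw [← sA.commutes c, hs, ← RingHom.comp_apply D.g, D.comm_s, RingHom.comp_apply, ← hf,
          ← IsScalarTower.algebraMap_apply, ← hs', AlgHom.commutes] }
  let G : B ⊗[C] C₁ →ₐ[C] B' ⊗[C] C₁ := Algebra.TensorProduct.map gB (AlgHom.id C C₁)
  have inv : ∀ (σ : A →ₐ[C] B) (σ' : A' →ₐ[C] B'), (∀ a, D.g (σ a) = σ' (algebraMap A A' a)) →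
      (∀ z, r (σ' z) = Algebra.TensorProduct.map σ (AlgHom.id C C₁) (τ z)) →
      (∀ {T : Type u} [CommRing T] (r₁ r₂ : B' →+* T), r₁.comp D.g = r₂.comp D.g →
        r₁.comp σ'.toRingHom = r₂.comp σ'.toRingHom → r₁ = r₂) →
      S₁ (Algebra.TensorProduct.map σ' (AlgHom.id C C₁) v) = 1 ∧
      ∀ w, S₁ w = 0 → w ∈ Ideal.span {1 - Algebra.TensorProduct.map σ' (AlgHom.id C C₁) v} := by
    intro σ σ' hσ hr huniq
    have hS : ∀ z, S₁ (Algebra.TensorProduct.map σ' (AlgHom.id C C₁) z) = Algebra.TensorProduct.map σ (AlgHom.id C C₁) (p z) := by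
      intro z
      induction z using TensorProduct.induction_on with
      | zero => simp only [map_zero]
      | tmul a c =>
        rw [Algebra.TensorProduct.map_tmul, hp1, map_mul, ← hr, Algebra.TensorProduct.map_tmul, map_one]
        exact Algebra.TensorProduct.lift_tmul _ _ _ _ _
      | add a b ha hb => simp only [map_add, ha, hb]
    refine ⟨by rw [hS, hpv, map_one], fun w hw => ?_⟩
    let e := Algebra.TensorProduct.map σ' (AlgHom.id C C₁) v
    let I : Ideal (B' ⊗[C] C₁) := Ideal.span {1 - e}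
    let h2 : B' ⊗[C] C₁ →+* (B' ⊗[C] C₁) ⧸ I := (Ideal.Quotient.mk I).comp (G.toRingHom.comp S₁.toRingHom)
    have hB : (Ideal.Quotient.mk I).comp (Algebra.TensorProduct.includeLeftRingHom : B' →+* B' ⊗[C] C₁) =
        h2.comp Algebra.TensorProduct.includeLeftRingHom := by
      refine huniq _ _ (RingHom.ext fun b => ?_) (RingHom.ext fun z => ?_)
      · show Ideal.Quotient.mk I (D.g b ⊗ₜ 1) = Ideal.Quotient.mk I (G (S₁ (D.g b ⊗ₜ 1)))
        rw [Algebra.TensorProduct.lift_tmul, map_one, mul_one]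
        show _ = Ideal.Quotient.mk I (G (r (D.g b)))
        rw [hrg, Algebra.TensorProduct.map_tmul]
        rfl
      · show Ideal.Quotient.mk I (σ' z ⊗ₜ 1) = Ideal.Quotient.mk I (G (S₁ (σ' z ⊗ₜ 1)))
        have h3 : σ' z ⊗ₜ[C] (1 : C₁) = Algebra.TensorProduct.map σ' (AlgHom.id C C₁) (z ⊗ₜ 1) := rfl
        have h4 : ∀ u, G (Algebra.TensorProduct.map σ (AlgHom.id C C₁) u) =
            Algebra.TensorProduct.map σ' (AlgHom.id C C₁) (F u) := by
          intro u
          induction u using TensorProduct.induction_on with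
          | zero => simp only [map_zero]
          | tmul a c => exact congrArg (fun y => y ⊗ₜ[C] c) (hσ a)
          | add a b ha hb => simp only [map_add, ha, hb]
        rw [h3, hS, h4, Ideal.Quotient.eq, ← map_sub]
        have h5 := hker (z ⊗ₜ 1 - F (p (z ⊗ₜ 1))) (by rw [map_sub, hpF, sub_self])
        obtain ⟨y, hy⟩ := Ideal.mem_span_singleton.1 h5
        rw [hy, map_mul, map_sub, map_one]
        exact Ideal.mul_mem_right _ _ (Ideal.subset_span rfl)
    have heq : ∀ y, Ideal.Quotient.mk I y = h2 y := by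
      intro y
      induction y using TensorProduct.induction_on with
      | zero => simp only [map_zero]
      | tmul b c =>
        rw [show b ⊗ₜ[C] c = (b ⊗ₜ 1) * (1 ⊗ₜ c) by rw [Algebra.TensorProduct.tmul_mul_tmul, mul_one, one_mul],
          map_mul, map_mul]
        refine congrArg₂ (· * ·) (RingHom.congr_fun hB b) ?_
        show _ = Ideal.Quotient.mk I (G (S₁ (1 ⊗ₜ c)))
        rw [Algebra.TensorProduct.lift_tmul, map_one, one_mul, Algebra.TensorProduct.includeRight_apply,
          Algebra.TensorProduct.map_tmul, map_one]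
        rfl
      | add a b ha hb => simp only [map_add, ha, hb]
    rw [← Ideal.Quotient.eq_zero_iff_mem, heq]
    show Ideal.Quotient.mk I (G (S₁ w)) = 0
    rw [hw, map_zero, map_zero]
  obtain ⟨hs1, hsk⟩ := inv sA sA' (fun a => by
      rw [hs, hs', ← RingHom.comp_apply D.g, D.comm_s, RingHom.comp_apply, hf])
    (fun z => by rw [hs']; exact hrs z) (fun r₁ r₂ h h' => D.uniq_s r₁ r₂ h (by
      rw [show D.s' = sA'.toRingHom from RingHom.ext fun z => (hs' z).symm]; exact h'))
  obtain ⟨ht1, htk⟩ := inv tA tA' (fun a => by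
      rw [ht, ht', ← RingHom.comp_apply D.g, D.comm_t, RingHom.comp_apply, hf])
    (fun z => by rw [ht']; exact hrt z) (fun r₁ r₂ h h' => D.uniq_t r₁ r₂ h (by
      rw [show D.t' = tA'.toRingHom from RingHom.ext fun z => (ht' z).symm]; exact h'))
  let vs := Algebra.TensorProduct.map sA' (AlgHom.id C C₁) v
  let vt := Algebra.TensorProduct.map tA' (AlgHom.id C C₁) v
  have hvst : vs = vt := by
    obtain ⟨y, hy⟩ := Ideal.mem_span_singleton.1 (hsk (vt - 1) (by rw [map_sub, map_one, ht1, sub_self]))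
    obtain ⟨x, hx⟩ := Ideal.mem_span_singleton.1 (htk (vs - 1) (by rw [map_sub, map_one, hs1, sub_self]))
    have h1 : vs * vs = vs := (map_mul _ v v).symm.trans (congrArg _ hvv)
    have h2 : vt * vt = vt := (map_mul _ v v).symm.trans (congrArg _ hvv)
    linear_combination -vs * hy + vt * hx + y * h1 - x * h2
  -- descent to the quotients
  let jC' : C' →ₐ[C] A' := IsScalarTower.toAlgHom C C' A'
  have heA' : ∀ m, sA' m = tA' m ↔ m ∈ Set.range jC' := fun m => by rw [hs', ht']; exact hA' m
  let j : C' ⊗[C] C₁ →ₐ[C] A' ⊗[C] C₁ := Algebra.TensorProduct.map jC' (AlgHom.id C C₁)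
  have hj : Function.Injective j := map_injective_of_flat jC' hinj'
  obtain ⟨e, he⟩ := mem_range_of_eq_of_flat jC' sA' tA' heA' v hvst
  let i : C₁ →ₐ[C] A ⊗[C] C₁ := Algebra.TensorProduct.includeRight
  have hi : Function.Injective i := by
    have h := (map_injective_of_flat (C₁ := C₁) (Algebra.ofId C A) hinj).comp (Algebra.TensorProduct.lid C C₁).symm.injective
    refine fun a b hab => h ?_
    show Algebra.TensorProduct.map _ _ _ = Algebra.TensorProduct.map _ _ _
    rw [Algebra.TensorProduct.lid_symm_apply, Algebra.TensorProduct.lid_symm_apply, Algebra.TensorProduct.map_tmul,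
      Algebra.TensorProduct.map_tmul, map_one]
    exact hab
  have hrange : ∀ z : C' ⊗[C] C₁, ∃ c, i c = p (j z) := fun z => by
    have heA : ∀ m, sA m = tA m ↔ m ∈ Set.range (Algebra.ofId C A) := fun m => by rw [hs, ht]; exact hA m
    obtain ⟨y, hy⟩ := mem_range_of_eq_of_flat (Algebra.ofId C A) sA tA heA (p (j z)) (by
      induction z using TensorProduct.induction_on with
      | zero => simp only [map_zero]
      | tmul x c =>
        rw [Algebra.TensorProduct.map_tmul, hp1, map_mul, map_mul, Algebra.TensorProduct.map_tmul,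
          Algebra.TensorProduct.map_tmul, map_one, map_one, ← hrs, ← hrt]
        rw [show D.s' (jC' x) = D.t' (jC' x) from (hA' _).2 ⟨x, rfl⟩]
      | add a b ha hb => simp only [map_add, ha, hb])
    refine ⟨Algebra.TensorProduct.lid C C₁ y, ?_⟩
    rw [← hy]
    clear hy
    induction y using TensorProduct.induction_on with
    | zero => simp only [map_zero]
    | tmul a c =>
      rw [Algebra.TensorProduct.lid_tmul, Algebra.TensorProduct.map_tmul]
      show 1 ⊗ₜ[C] (a • c) = algebraMap C A a ⊗ₜ[C] c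
      rw [← TensorProduct.smul_tmul, Algebra.algebraMap_eq_smul_one]
    | add a b ha hb => simp only [map_add, ha, hb]
  choose ψ hψ using hrange
  let ψr : C' ⊗[C] C₁ →+* C₁ :=
    { toFun := ψ
      map_one' := hi (by rw [hψ, map_one, map_one, map_one])
      map_mul' := fun a b => hi (by rw [hψ, map_mul j, map_mul p, map_mul i, hψ, hψ])
      map_zero' := hi (by rw [hψ, map_zero, map_zero, map_zero])
      map_add' := fun a b => hi (by rw [hψ, map_add j, map_add p, map_add i, hψ, hψ]) }
  have hψr : ∀ z, i (ψr z) = p (j z) := hψ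
  have hψc : ∀ c, ψr (1 ⊗ₜ c) = c := fun c => hi (by
    rw [hψr, Algebra.TensorProduct.map_tmul, map_one, hp1, map_one, one_mul]
    rfl)
  let φ : C' →+* C₁ := ψr.comp Algebra.TensorProduct.includeLeftRingHom
  letI : Algebra C' C₁ := φ.toAlgebra
  haveI : IsScalarTower C C' C₁ := .of_algebraMap_eq fun c => by
    show _ = ψr (algebraMap C C' c ⊗ₜ 1)
    rw [Algebra.algebraMap_eq_smul_one c, Algebra.algebraMap_eq_smul_one c, TensorProduct.smul_tmul, hψc]
  haveI hetC' : Algebra.Etale C' C₁ := by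
    letI : Algebra (C' ⊗[C] C₁) C₁ := ψr.toAlgebra
    haveI : IsScalarTower C' (C' ⊗[C] C₁) C₁ := .of_algebraMap_eq fun x => rfl
    have hje : IsIdempotentElem e := hj (by rw [map_mul, he, hvv])
    haveI : IsLocalization.Away e C₁ := IsLocalization.away_of_isIdempotentElem hje (by
      refine le_antisymm (fun z hz => ?_) (Ideal.span_le.2 (Set.singleton_subset_iff.2 ?_))
      · refine Ideal.mem_span_singleton.2 ⟨z, ?_⟩
        have h1 : p (j z) = 0 := by rw [← hψr]; exact (congrArg i hz).trans (map_zero i)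
        refine hj ?_
        rw [map_mul, map_sub, map_one, he, sub_mul, one_mul, hv _ h1, sub_zero]
      · show ψr (1 - e) = 0
        refine hi ?_
        rw [hψr, map_sub, map_one, he, map_sub, map_one, hpv, sub_self, map_zero])
      (fun c => ⟨1 ⊗ₜ c, hψc c⟩)
    haveI : Algebra.Etale (C' ⊗[C] C₁) C₁ := Algebra.Etale.of_isLocalizationAway e
    exact Algebra.Etale.comp C' (C' ⊗[C] C₁) C₁
  refine ⟨C₁, inferInstance, inferInstance, φ.toAlgebra, inferInstance, inferInstance, hetC',
    RingHom.ker ε.toRingHom, RingHom.ker_isPrime _, ?_, fun β hβ => ?_⟩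
  · refine Ideal.ext fun x => ?_
    have h1 : ε (φ x) = a₀ (algebraMap C' A' x) := by
      have h := congrArg (Algebra.TensorProduct.lift ({ a₀.comp D.f with commutes' := h₀ } : A →ₐ[C] E) ε
        fun _ _ => Commute.all _ _) (hψr (x ⊗ₜ 1))
      rw [Algebra.TensorProduct.includeRight_apply, Algebra.TensorProduct.lift_tmul, map_one, one_mul,
        Algebra.TensorProduct.map_tmul, hp1, map_one, ← Algebra.TensorProduct.one_def, mul_one, hε] at h
      exact h
    rw [Ideal.mem_comap, RingHom.mem_ker]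
    show ε (φ x) = 0 ↔ _
    rw [h1, Subtype.ext_iff]
    show algebraMap A' E₀ (algebraMap C' A' x) = 0 ↔ _
    rw [IsScalarTower.algebraMap_apply A' Q.ResidueField E₀, map_eq_zero, Ideal.algebraMap_residueField_eq_zero]
    exact (show x ∈ Q.comap (algebraMap C' A') ↔ x ∈ 𝔭 by rw [hQp])
  · have hτφ : ∀ x, τ (algebraMap C' A' x) = 1 ⊗ₜ φ x := fun x => by
      have h := hψr (x ⊗ₜ 1)
      rw [Algebra.TensorProduct.map_tmul, hp1, map_one, ← Algebra.TensorProduct.one_def, mul_one] at h
      exact h.symm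
    letI : Algebra C' (A ⊗[C] C₁) := (i.toRingHom.comp φ).toAlgebra
    let γ : A' ⊗[C'] C₁ →ₐ[C'] A ⊗[C] C₁ := Algebra.TensorProduct.lift
      ({ τ with commutes' := hτφ } : A' →ₐ[C'] A ⊗[C] C₁)
      ({ i.toRingHom with commutes' := fun x => rfl } : C₁ →ₐ[C'] A ⊗[C] C₁) fun _ _ => Commute.all _ _
    have h1 : ∀ w, γ (β w) = w := fun w => by
      induction w using TensorProduct.induction_on with
      | zero => simp only [map_zero]
      | tmul a c =>
        rw [hβ, Algebra.TensorProduct.lift_tmul]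
        show τ (algebraMap A A' a) * (1 ⊗ₜ c) = _
        rw [hf, hτf, Algebra.TensorProduct.tmul_mul_tmul, mul_one, one_mul]
      | add a b ha hb => simp only [map_add, ha, hb]
    let cmp : A' ⊗[C] C₁ →ₐ[C] A' ⊗[C'] C₁ := Algebra.TensorProduct.mapOfCompatibleSMul C' C C A' C₁
    have hcmp : ∀ (z : A') (c : C₁), cmp (z ⊗ₜ c) = z ⊗ₜ[C'] c := fun z c =>
      Algebra.TensorProduct.mapOfCompatibleSMul_tmul C' C C A' C₁ z c
    have hcv : cmp v = 1 := by
      rw [← he]
      have h2 : ∀ z, cmp (j z) = 1 ⊗ₜ[C'] ψr z := by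
        intro z
        induction z using TensorProduct.induction_on with
        | zero => simp only [map_zero, TensorProduct.tmul_zero]
        | tmul x c =>
          rw [Algebra.TensorProduct.map_tmul, hcmp,
            show x ⊗ₜ[C] c = (x ⊗ₜ 1) * (1 ⊗ₜ c) by rw [Algebra.TensorProduct.tmul_mul_tmul, mul_one, one_mul],
            map_mul, hψc, show jC' x = algebraMap C' A' x from rfl, Algebra.algebraMap_eq_smul_one,
            TensorProduct.smul_tmul, Algebra.smul_def]
          rfl
        | add a b ha hb => simp only [map_add, TensorProduct.tmul_add, ha, hb]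
      have he1 : ψr e = 1 := hi (by rw [hψr, he, hpv, map_one])
      rw [h2, he1]
      rfl
    have h3 : ∀ u, cmp (F u) = β u := fun u => by
      induction u using TensorProduct.induction_on with
      | zero => simp only [map_zero]
      | tmul a c => rw [hβ]; rfl
      | add a b ha hb => simp only [map_add, ha, hb]
    have h4 : ∀ y, cmp y = β (p y) := fun y => by
      obtain ⟨d, hd⟩ := Ideal.mem_span_singleton.1 (hker (y - F (p y)) (by rw [map_sub, hpF, sub_self]))
      have h := congrArg cmp hd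
      rw [map_sub, h3, map_mul, map_sub, map_one, hcv, sub_self, zero_mul, sub_eq_zero] at h
      exact h
    refine ⟨fun a b hab => by rw [← h1 a, ← h1 b, hab], fun y => ?_⟩
    induction y using TensorProduct.induction_on with
    | zero => exact ⟨0, map_zero β⟩
    | tmul z c => exact ⟨p (z ⊗ₜ c), (h4 (z ⊗ₜ c)).symm⟩
    | add a b ha hb =>
      obtain ⟨a', rfl⟩ := ha
      obtain ⟨b', rfl⟩ := hb
      exact ⟨a' + b', map_add β a' b'⟩

end Groth.Agent.QuotEtaleLib
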