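import Groth.Agent.QuotEtaleLib.Descend
import Groth.Agent.FinGrpdLib.Affine
import Groth.Agent.ASp.EtLocal

/-!
The quotient of an étale map of affine groupoids with cartesian squares.
-/

set_option autoImplicit false
set_option backward.isDefEq.respectTransparency false
set_option linter.style.haveILetI false
universe u

open CategoryTheory CategoryTheory.Limits AlgebraicGeometry
open scoped TensorProduct

noncomputable section

namespace Groth.Agent.QuotEtaleLib

/-- The point of an affine scheme given by a map out of its functions. -/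
def toPt {X : Scheme.{u}} [IsAffine X] {T : Type u} [CommRing T] (x : Γ(X, ⊤) →+* T) :
    Spec (CommRingCat.of T) ⟶ X :=
  Spec.map (CommRingCat.ofHom x) ≫ X.isoSpec.inv

theorem toPt_comp {X Y : Scheme.{u}} [IsAffine X] [IsAffine Y] (m : X ⟶ Y) {T : Type u} [CommRing T]
    (x : Γ(X, ⊤) →+* T) : toPt (x.comp m.appTop.hom) = toPt x ≫ m := by
  rw [toPt, toPt, show CommRingCat.ofHom (x.comp m.appTop.hom) = m.appTop ≫ CommRingCat.ofHom x from rfl,
    Spec.map_comp, Category.assoc, Category.assoc, ← Scheme.isoSpec_inv_naturality]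

theorem toPt_injective {X : Scheme.{u}} [IsAffine X] {T : Type u} [CommRing T] {x y : Γ(X, ⊤) →+* T}
    (h : toPt x = toPt y) : x = y :=
  congrArg CommRingCat.Hom.hom (Spec.map_injective ((cancel_mono X.isoSpec.inv).1 h))

theorem exists_toPt {X : Scheme.{u}} [IsAffine X] {T : Type u} [CommRing T] (m : Spec (CommRingCat.of T) ⟶ X) :
    ∃ x : Γ(X, ⊤) →+* T, toPt x = m :=
  ⟨(Spec.preimage (m ≫ X.isoSpec.hom)).hom, by
    rw [toPt, CommRingCat.ofHom_hom, Spec.map_preimage, Category.assoc, Iso.hom_inv_id, Category.comp_id]⟩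

set_option maxHeartbeats 800000 in
/-- A map from a base change is bijective if it is so over étale neighbourhoods of all points. -/
theorem bijective_of_charts {C C' A A' : Type u} [CommRing C] [CommRing C'] [CommRing A] [CommRing A']
    [Algebra C C'] [Algebra C A] [Algebra C A'] [Algebra C' A'] [Algebra A A'] [IsScalarTower C C' A']
    [IsScalarTower C A A'] (κ : C' ⊗[C] A →ₐ[C'] A')
    (hκ : ∀ x a, κ (x ⊗ₜ a) = algebraMap C' A' x * algebraMap A A' a)
    (C₁ : PrimeSpectrum C' → Type u) (i1 : ∀ p, CommRing (C₁ p)) (i2 : ∀ p, Algebra C (C₁ p))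
    (i3 : ∀ p, Algebra C' (C₁ p)) (i4 : ∀ p, IsScalarTower C C' (C₁ p)) (i6 : ∀ p, Algebra.Etale C' (C₁ p))
    (q : ∀ p, Ideal (C₁ p)) (hq : ∀ p, (q p).IsPrime) (hqp : ∀ p, (q p).comap (algebraMap C' (C₁ p)) = p.asIdeal)
    (hβ : ∀ (p) (β : A ⊗[C] C₁ p →+* A' ⊗[C'] C₁ p),
      (∀ a c, β (a ⊗ₜ c) = algebraMap A A' a ⊗ₜ c) → Function.Bijective β) : Function.Bijective κ := by
  have key : ∀ p : PrimeSpectrum C', (∀ z, κ z = 0 → z ⊗ₜ[C'] (1 : C₁ p) = 0) ∧
      ∀ z : A', (Submodule.Quotient.mk z : A' ⧸ LinearMap.range κ.toLinearMap) ⊗ₜ[C'] (1 : C₁ p) = 0 := by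
    intro p
    let β : A ⊗[C] C₁ p →ₐ[C] A' ⊗[C'] C₁ p := Algebra.TensorProduct.lift
      ((Algebra.TensorProduct.includeLeft (R := C') (S := C) (A := A')).comp (IsScalarTower.toAlgHom C A A'))
      ((Algebra.TensorProduct.includeRight (R := C') (A := A')).restrictScalars C) fun _ _ => Commute.all _ _
    have hβ' : ∀ a c, β (a ⊗ₜ c) = algebraMap A A' a ⊗ₜ c := fun a c => by
      rw [Algebra.TensorProduct.lift_tmul]
      show (algebraMap A A' a ⊗ₜ[C'] (1 : C₁ p)) * ((1 : A') ⊗ₜ[C'] c) = _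
      rw [Algebra.TensorProduct.tmul_mul_tmul, mul_one, one_mul]
    have hbij := hβ p β.toRingHom hβ'
    constructor
    · intro z hz
      let μ : C' ⊗[C] A →ₐ[C] A ⊗[C] C₁ p := Algebra.TensorProduct.lift
        ((Algebra.TensorProduct.includeRight (R := C) (A := A)).comp (IsScalarTower.toAlgHom C C' (C₁ p)))
        Algebra.TensorProduct.includeLeft fun _ _ => Commute.all _ _
      let ρ : A ⊗[C] C₁ p →ₐ[C] (C' ⊗[C] A) ⊗[C'] C₁ p := Algebra.TensorProduct.lift
        ((Algebra.TensorProduct.includeLeft (R := C') (S := C) (A := C' ⊗[C] A)).comp Algebra.TensorProduct.includeRight)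
        ((Algebra.TensorProduct.includeRight (R := C') (A := C' ⊗[C] A)).restrictScalars C) fun _ _ => Commute.all _ _
      have h1 : ∀ w, ρ (μ w) = w ⊗ₜ 1 ∧ β (μ w) = κ w ⊗ₜ 1 := by
        intro w
        induction w using TensorProduct.induction_on with
        | zero => simp only [map_zero, TensorProduct.zero_tmul, and_self]
        | tmul x a =>
          have hμ : μ (x ⊗ₜ a) = a ⊗ₜ algebraMap C' (C₁ p) x := by
            rw [Algebra.TensorProduct.lift_tmul]
            show ((1 : A) ⊗ₜ algebraMap C' (C₁ p) x) * (a ⊗ₜ (1 : C₁ p)) = _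
            rw [Algebra.TensorProduct.tmul_mul_tmul, mul_one, one_mul]
          refine ⟨?_, ?_⟩
          · rw [hμ, Algebra.TensorProduct.lift_tmul]
            show (((1 : C') ⊗ₜ[C] a) ⊗ₜ[C'] (1 : C₁ p)) * ((1 : C' ⊗[C] A) ⊗ₜ[C'] algebraMap C' (C₁ p) x) = _
            rw [Algebra.TensorProduct.tmul_mul_tmul, mul_one, one_mul, Algebra.algebraMap_eq_smul_one x,
              ← TensorProduct.smul_tmul, TensorProduct.smul_tmul', smul_eq_mul, mul_one]
          · rw [hμ, hβ', hκ, Algebra.algebraMap_eq_smul_one (A := C₁ p) x, ← TensorProduct.smul_tmul, Algebra.smul_def]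
        | add u v hu hv =>
          simp only [map_add, TensorProduct.add_tmul, hu.1, hu.2, hv.1, hv.2, and_self]
      obtain ⟨h2, h3⟩ := h1 z
      rw [hz, TensorProduct.zero_tmul] at h3
      have h4 : μ z = 0 := hbij.1 (h3.trans (map_zero β).symm)
      rw [← h2, h4, map_zero]
    · intro z
      obtain ⟨w, hw⟩ := hbij.2 (z ⊗ₜ 1)
      show (LinearMap.range κ.toLinearMap).mkQ.rTensor (C₁ p) (z ⊗ₜ 1) = 0
      rw [← hw]
      clear hw
      induction w using TensorProduct.induction_on with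
      | zero => rw [map_zero, map_zero]
      | tmul a c =>
        rw [show β.toRingHom (a ⊗ₜ c) = β (a ⊗ₜ c) from rfl, hβ', LinearMap.rTensor_tmul,
          show (LinearMap.range κ.toLinearMap).mkQ (algebraMap A A' a) = 0 from
            (Submodule.Quotient.mk_eq_zero _).2 ⟨1 ⊗ₜ a, (hκ 1 a).trans (by rw [map_one, one_mul])⟩,
          TensorProduct.zero_tmul]
      | add u v hu hv => rw [map_add, map_add, hu, hv, add_zero]
  refine ⟨(injective_iff_map_eq_zero κ).2 fun z hz => eq_zero_of_tensor (C' := C') z fun p hp => ?_, fun z => ?_⟩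
  · exact ⟨C₁ ⟨p, hp⟩, i1 _, i3 _, inferInstance, q _, hq _, hqp _, (key ⟨p, hp⟩).1 z hz⟩
  · have h : (Submodule.Quotient.mk z : A' ⧸ LinearMap.range κ.toLinearMap) = 0 :=
      eq_zero_of_tensor (C' := C') _ fun p hp =>
        ⟨C₁ ⟨p, hp⟩, i1 _, i3 _, inferInstance, q _, hq _, hqp _, (key ⟨p, hp⟩).2 z⟩
    exact (Submodule.Quotient.mk_eq_zero _).1 h

variable {S : Scheme.{u}} {G' G : Grpd.GroupoidScheme S} (f : Grpd.GroupoidScheme.Hom G' G)
  [IsAffine G.U] [IsAffine G.R] [IsAffine G'.U] [IsAffine G'.R]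
  [IsFinite G.s] [Flat G.s] [LocallyOfFinitePresentation G.s]
  [IsFinite G'.s] [Flat G'.s] [LocallyOfFinitePresentation G'.s]
  (hs : IsPullback f.fR G'.s G.s f.fU) (ht : IsPullback f.fR G'.t G.t f.fU)
  (hstab : ∃ g : G'.stabilizer ⟶ G.stabilizer,
    g ≫ pullback.fst G.j G.diag = pullback.fst G'.j G'.diag ≫ f.fR ∧
      IsPullback g G'.stabilizerToU G.stabilizerToU f.fU)
  [Etale f.fU]

include hstab hs in
omit [IsAffine G.U] [IsAffine G.R] [IsAffine G'.U] [IsAffine G'.R] [IsFinite G.s] [Flat G.s]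
  [LocallyOfFinitePresentation G.s] [IsFinite G'.s] [Flat G'.s] [LocallyOfFinitePresentation G'.s] [Etale f.fU] in
theorem loop_lift {T : Scheme.{u}} (m : T ⟶ G'.R) (h : (m ≫ f.fR) ≫ G.s = (m ≫ f.fR) ≫ G.t) :
    m ≫ G'.s = m ≫ G'.t := by
  obtain ⟨g, hg, hgp⟩ := hstab
  let w : T ⟶ G.stabilizer := pullback.lift (m ≫ f.fR) ((m ≫ f.fR) ≫ G.s) (by
    apply pullback.hom_ext <;> simp [Grpd.GroupoidScheme.j, Grpd.GroupoidScheme.diag]
    simpa using h.symm)
  let w' : T ⟶ G'.stabilizer := hgp.lift w (m ≫ G'.s) (by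
    rw [Grpd.GroupoidScheme.stabilizerToU, pullback.lift_snd]
    simp [f.comm_s])
  have h1 : w' ≫ g = w := hgp.lift_fst _ _ _
  have h2 : w' ≫ pullback.snd G'.j G'.diag = m ≫ G'.s := hgp.lift_snd _ _ _
  let r := w' ≫ pullback.fst G'.j G'.diag
  have hj : r ≫ G'.j = (m ≫ G'.s) ≫ G'.diag := by
    rw [Category.assoc, pullback.condition, reassoc_of% h2, Category.assoc]
  have hrt : r ≫ G'.t = m ≫ G'.s := by
    have := congrArg (· ≫ pullback.fst G'.pU G'.pU) hj
    simpa [Grpd.GroupoidScheme.j, Grpd.GroupoidScheme.diag] using this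
  have hrs : r ≫ G'.s = m ≫ G'.s := by
    have := congrArg (· ≫ pullback.snd G'.pU G'.pU) hj
    simpa [Grpd.GroupoidScheme.j, Grpd.GroupoidScheme.diag] using this
  have hrR : r ≫ f.fR = m ≫ f.fR := by
    rw [Category.assoc, ← hg, reassoc_of% h1]
    exact pullback.lift_fst _ _ _
  rw [← hs.hom_ext hrR hrs]
  exact hrs.trans hrt.symm

include hs ht hstab in
theorem exists_sq : ∃ D : Sq Γ(G.U, ⊤) Γ(G.R, ⊤) Γ(G'.U, ⊤) Γ(G'.R, ⊤),
    D.s = G.s.appTop.hom ∧ D.t = G.t.appTop.hom ∧ D.s' = G'.s.appTop.hom ∧ D.t' = G'.t.appTop.hom ∧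
      D.f = f.fU.appTop.hom := by
  have Ps := isPushout_appTop_of_isPullback hs
  have Pt := isPushout_appTop_of_isPullback ht
  refine ⟨
    { s := G.s.appTop.hom
      t := G.t.appTop.hom
      s' := G'.s.appTop.hom
      t' := G'.t.appTop.hom
      f := f.fU.appTop.hom
      g := f.fR.appTop.hom
      comm_s := congrArg CommRingCat.Hom.hom Ps.w
      comm_t := congrArg CommRingCat.Hom.hom Pt.w
      push_s := fun {T} _ b a h =>
        ⟨(Ps.desc (CommRingCat.ofHom b) (CommRingCat.ofHom a) (CommRingCat.hom_ext h)).hom,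
          congrArg CommRingCat.Hom.hom (Ps.inl_desc _ _ _), congrArg CommRingCat.Hom.hom (Ps.inr_desc _ _ _)⟩
      uniq_s := fun {T} _ r₁ r₂ h h' => congrArg CommRingCat.Hom.hom
        (Ps.hom_ext (CommRingCat.hom_ext h) (CommRingCat.hom_ext h') :
          CommRingCat.ofHom r₁ = CommRingCat.ofHom r₂)
      uniq_t := fun {T} _ r₁ r₂ h h' => congrArg CommRingCat.Hom.hom
        (Pt.hom_ext (CommRingCat.hom_ext h) (CommRingCat.hom_ext h') :
          CommRingCat.ofHom r₁ = CommRingCat.ofHom r₂)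
      etale := HasRingHomProperty.appTop (P := @Etale) _ inferInstance
      finite_s := G.s.finite_appTop
      isIntegral := FinGrpdLib.isIntegral_invariants G
      isIntegral' := FinGrpdLib.isIntegral_invariants G'
      orbit := fun x₀ x₁ h => (FinGrpdLib.toData G).exists_point_of_eq x₀ x₁ fun a ha => h a ha
      loop := fun r h => toPt_injective (by
        rw [toPt_comp, toPt_comp]
        refine loop_lift f hs hstab _ ?_
        rw [← toPt_comp, ← toPt_comp, ← toPt_comp, h])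
      trans := fun {k} _ _ r₁ r₂ h => by
        have h' : toPt r₁ ≫ G'.s = toPt r₂ ≫ G'.t := by rw [← toPt_comp, ← toPt_comp, h]
        obtain ⟨r, hr⟩ := exists_toPt (pullback.lift (toPt r₁) (toPt r₂) h' ≫ G'.c)
        refine ⟨r, toPt_injective ?_, toPt_injective ?_⟩
        · rw [toPt_comp, toPt_comp, hr, G'.comp_t]
        · rw [toPt_comp, toPt_comp, hr, G'.comp_s]
      symm := fun {k} _ _ r => by
        obtain ⟨r₁, hr⟩ := exists_toPt (toPt r ≫ G'.i)
        refine ⟨r₁, toPt_injective ?_, toPt_injective ?_⟩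
        · rw [toPt_comp, toPt_comp, hr, Category.assoc, G'.i_t]
        · rw [toPt_comp, toPt_comp, hr, Category.assoc, G'.i_s]
      refl := fun {k} _ _ a => by
        obtain ⟨r, hr⟩ := exists_toPt (toPt a ≫ G'.e)
        refine ⟨r, toPt_injective ?_, toPt_injective ?_⟩
        · rw [toPt_comp, hr, Category.assoc, G'.e_t, Category.comp_id]
        · rw [toPt_comp, hr, Category.assoc, G'.e_s, Category.comp_id] },
    rfl, rfl, rfl, rfl, rfl⟩

omit [IsAffine G.R] [IsAffine G'.R] [IsFinite G.s] [Flat G.s] [LocallyOfFinitePresentation G.s]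
  [IsFinite G'.s] [Flat G'.s] [LocallyOfFinitePresentation G'.s] [Etale f.fU] in
/-- The square of quotients from the bijection of rings. -/
theorem isPullback_of_bijective [Algebra G.invariants G'.invariants] [Algebra G.invariants Γ(G'.U, ⊤)]
    [IsScalarTower G.invariants G'.invariants Γ(G'.U, ⊤)]
    (sub : G'.invariants →+* Γ(G'.U, ⊤)) (κ : G'.invariants ⊗[G.invariants] Γ(G.U, ⊤) →ₐ[G'.invariants] Γ(G'.U, ⊤))
    (hκ : Function.Bijective κ) {φ : Γ(G.U, ⊤) →+* Γ(G'.U, ⊤)} (hφ : φ = f.fU.appTop.hom)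
    (hκt : ∀ x a, κ (x ⊗ₜ a) = sub x * φ a)
    (g : Spec (CommRingCat.of G'.invariants) ⟶ Spec (CommRingCat.of G.invariants))
    (hsub : ∀ x, sub x = (x : Γ(G'.U, ⊤)))
    (hg : g = Spec.map (CommRingCat.ofHom (algebraMap G.invariants G'.invariants))) :
    IsPullback f.fU G'.toQuot G.toQuot g := by
  subst hg hφ
  let e : CommRingCat.of (G'.invariants ⊗[G.invariants] Γ(G.U, ⊤)) ≅ Γ(G'.U, ⊤) :=
    (RingEquiv.ofBijective κ hκ).toCommRingCatIso
  have hp0 := CommRingCat.isPushout_tensorProduct G.invariants G'.invariants Γ(G.U, ⊤)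
  have hp1 : IsPushout (CommRingCat.ofHom (algebraMap G.invariants G'.invariants))
      (CommRingCat.ofHom G.invariants.subtype) (CommRingCat.ofHom G'.invariants.subtype) f.fU.appTop :=
    hp0.of_iso (Iso.refl _) (Iso.refl _) (Iso.refl _) e (by simp) (by simp; rfl)
      (CommRingCat.hom_ext (RingHom.ext fun x => by
        show κ (x ⊗ₜ 1) = _
        rw [hκt, map_one, mul_one, hsub]
        rfl))
      (CommRingCat.hom_ext (RingHom.ext fun a => by
        show κ (1 ⊗ₜ a) = _
        rw [hκt, map_one, one_mul]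
        rfl))
  have hp2 := (isPullback_SpecMap_of_isPushout _ _ _ _ hp1).flip
  refine hp2.of_iso G'.U.isoSpec.symm G.U.isoSpec.symm (Iso.refl _) (Iso.refl _) ?_ ?_ ?_ ?_
  · simp [Scheme.isoSpec_inv_naturality]
  · simp [Grpd.GroupoidScheme.toQuot, Scheme.isoSpec]
  · simp [Grpd.GroupoidScheme.toQuot, Scheme.isoSpec]
  · simp

include hs ht hstab in
set_option maxHeartbeats 1600000 in
/-- The map of quotients is étale and the square to it is cartesian. -/
theorem exists_quotient_map : ∃ g : Spec (CommRingCat.of G'.invariants) ⟶ Spec (CommRingCat.of G.invariants),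
    G'.toQuot ≫ g = f.fU ≫ G.toQuot ∧ Etale g ∧ IsPullback f.fU G'.toQuot G.toQuot g := by
  classical
  obtain ⟨D, hDs, hDt, hDs', hDt', hDf⟩ := exists_sq f hs ht hstab
  let A := Γ(G.U, ⊤)
  let B := Γ(G.R, ⊤)
  let A' := Γ(G'.U, ⊤)
  let B' := Γ(G'.R, ⊤)
  have hmem : ∀ c : G.invariants, D.f (c : A) ∈ G'.invariants := fun c => by
    rw [FinGrpdLib.mem_invariants, ← hDs', ← hDt', ← RingHom.comp_apply D.s', ← D.comm_s, ← RingHom.comp_apply D.t',
      ← D.comm_t, RingHom.comp_apply, RingHom.comp_apply, hDs, hDt]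
    exact congrArg D.g c.2
  let ι : G.invariants →+* G'.invariants := (D.f.comp G.invariants.subtype).codRestrict G'.invariants hmem
  letI : Algebra G.invariants G'.invariants := ι.toAlgebra
  letI : Algebra G.invariants B := (D.s.comp G.invariants.subtype).toAlgebra
  letI : Algebra G.invariants A' := (D.f.comp G.invariants.subtype).toAlgebra
  letI : Algebra G.invariants B' := (D.s'.comp (D.f.comp G.invariants.subtype)).toAlgebra
  letI : Algebra A A' := D.f.toAlgebra
  haveI : IsScalarTower G.invariants A A' := .of_algebraMap_eq fun _ => rfl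
  haveI : IsScalarTower G.invariants G'.invariants A' := .of_algebraMap_eq fun _ => rfl
  let sA : A →ₐ[G.invariants] B := { D.s with commutes' := fun _ => rfl }
  let tA : A →ₐ[G.invariants] B := { D.t with
    commutes' := fun c => show D.t (c : A) = D.s (c : A) by rw [hDs, hDt]; exact c.2.symm }
  let sA' : A' →ₐ[G.invariants] B' := { D.s' with commutes' := fun _ => rfl }
  let tA' : A' →ₐ[G.invariants] B' := { D.t' with
    commutes' := fun c => show D.t' (D.f (c : A)) = D.s' (D.f (c : A)) by rw [hDs', hDt']; exact (hmem c).symm }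
  haveI : Algebra.IsIntegral G.invariants A := FinGrpdLib.isIntegral_invariants G
  haveI : Algebra.IsIntegral G'.invariants A' := FinGrpdLib.isIntegral_invariants G'
  haveI : Algebra.IsIntegral G.invariants B := by
    letI : Algebra A B := D.s.toAlgebra
    haveI : IsScalarTower G.invariants A B := .of_algebraMap_eq fun _ => rfl
    haveI : Module.Finite A B := D.finite_s
    exact Algebra.IsIntegral.trans A
  have hA : ∀ a : A, D.s a = D.t a ↔ a ∈ (algebraMap G.invariants A).range := fun a => by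
    rw [hDs, hDt, ← FinGrpdLib.mem_invariants G]
    exact ⟨fun h => ⟨⟨a, h⟩, rfl⟩, fun ⟨c, hc⟩ => hc ▸ c.2⟩
  have hA' : ∀ a : A', D.s' a = D.t' a ↔ a ∈ (algebraMap G'.invariants A').range := fun a => by
    rw [hDs', hDt', ← FinGrpdLib.mem_invariants G']
    exact ⟨fun h => ⟨⟨a, h⟩, rfl⟩, fun ⟨c, hc⟩ => hc ▸ c.2⟩
  have hchart := fun 𝔭 : PrimeSpectrum G'.invariants => D.exists_chart sA tA sA' tA'
    (fun _ => rfl) (fun _ => rfl) (fun _ => rfl) (fun _ => rfl) (fun _ => rfl) hA hA'
    Subtype.val_injective Subtype.val_injective 𝔭.asIdeal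
  let g := Spec.map (CommRingCat.ofHom ι)
  have hw : G'.toQuot ≫ g = f.fU ≫ G.toQuot := by
    simp only [Grpd.GroupoidScheme.toQuot, g, Category.assoc, Scheme.toSpecΓ_naturality_assoc, ← Spec.map_comp]
    congr 2
    ext c
    exact (congrArg (fun φ : A →+* A' => φ c.1) hDf)
  choose C₁ i1 i2 i3 i4 i5 i6 q hq hqp hβ using hchart
  refine ⟨g, hw, ?_, ?_⟩
  · let c : ∀ 𝔭 : PrimeSpectrum G'.invariants, Spec (CommRingCat.of (C₁ 𝔭)) ⟶ Spec (CommRingCat.of G'.invariants) :=
      fun 𝔭 => Spec.map (CommRingCat.ofHom (algebraMap G'.invariants (C₁ 𝔭)))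
    haveI : ∀ 𝔭, Etale (c 𝔭) := fun 𝔭 => HasRingHomProperty.Spec_iff.2 (RingHom.etale_algebraMap.2 (i6 𝔭))
    haveI : ∀ 𝔭, Etale (c 𝔭 ≫ g) := fun 𝔭 => by
      rw [← Spec.map_comp, ← CommRingCat.ofHom_comp]
      refine HasRingHomProperty.Spec_iff.2 ?_
      show RingHom.Etale ((algebraMap G'.invariants (C₁ 𝔭)).comp ι)
      rw [show (algebraMap G'.invariants (C₁ 𝔭)).comp ι = algebraMap G.invariants (C₁ 𝔭) from
        (IsScalarTower.algebraMap_eq G.invariants G'.invariants (C₁ 𝔭)).symm]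
      exact RingHom.etale_algebraMap.2 (i5 𝔭)
    haveI : Etale (Sigma.desc c) := IsZariskiLocalAtSource.sigmaDesc inferInstance
    haveI : Surjective (Sigma.desc c) := ⟨fun x => by
      refine ⟨Sigma.ι (fun 𝔭 => Spec (CommRingCat.of (C₁ 𝔭))) x (⟨q x, hq x⟩ : PrimeSpectrum (C₁ x)), ?_⟩
      rw [← Scheme.Hom.comp_apply, Sigma.ι_desc]
      exact PrimeSpectrum.ext (hqp x)⟩
    haveI : Etale (Sigma.desc c ≫ g) := by
      rw [show Sigma.desc c ≫ g = Sigma.desc (fun 𝔭 => c 𝔭 ≫ g) from Sigma.hom_ext _ _ fun 𝔭 => by simp]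
      exact IsZariskiLocalAtSource.sigmaDesc inferInstance
    exact EtDescent.etale_of_precomp (Sigma.desc c) g
  · let κ : G'.invariants ⊗[G.invariants] A →ₐ[G'.invariants] A' := Algebra.TensorProduct.lift
      (Algebra.ofId G'.invariants A') (IsScalarTower.toAlgHom G.invariants A A') fun _ _ => Commute.all _ _
    have hκ : Function.Bijective κ := bijective_of_charts κ
      (fun x a => Algebra.TensorProduct.lift_tmul _ _ _ _ _) C₁ i1 i2 i3 i4 i6 q hq hqp hβ
    exact isPullback_of_bijective f G'.invariants.subtype κ hκ hDf (fun x a => Algebra.TensorProduct.lift_tmul _ _ _ _ _) g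
      (fun _ => rfl) rfl

end Groth.Agent.QuotEtaleLib
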