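import Groth.Agent.Henselization.Construction
import Mathlib.FieldTheory.PurelyInseparable.Basic
import Mathlib.FieldTheory.SeparableClosure
import Mathlib.RingTheory.Unramified.Field

/-!
Values of unramified algebras in fields, and the residue field of the strict henselization.
-/

set_option autoImplicit false
universe u

open Polynomial Groth.Agent.Henselization
open scoped TensorProduct

noncomputable section

namespace Groth.Agent.QuotEtaleLib

/-- Values of an unramified algebra are separable over a field containing the values of the base. -/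
theorem isSeparable_apply {A A' F : Type u} [CommRing A] [CommRing A'] [Algebra A A'] [Algebra.Etale A A']
    [Field F] (L : Type u) [Field L] [Algebra L F] (x : A →+* L) (a : A' →+* F)
    (h : ∀ z, a (algebraMap A A' z) = algebraMap L F (x z)) (z : A') : IsSeparable L (a z) := by
  let _ : Algebra A L := x.toAlgebra
  let _ : Algebra A F := ((algebraMap L F).comp x).toAlgebra
  haveI : IsScalarTower A L F := .of_algebraMap_eq fun _ => rfl
  let a' : A' →ₐ[A] F := { a with commutes' := h }
  let φ : L ⊗[A] A' →ₐ[L] F := Algebra.TensorProduct.lift (Algebra.ofId L F) a' fun _ _ => Commute.all _ _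
  haveI : Algebra.FormallyUnramified L φ.range :=
    Algebra.FormallyUnramified.of_surjective φ.rangeRestrict φ.rangeRestrict_surjective
  haveI : Algebra.FiniteType L φ.range := Algebra.FiniteType.of_surjective φ.rangeRestrict φ.rangeRestrict_surjective
  haveI : IsReduced φ.range := isReduced_of_injective φ.range.val Subtype.val_injective
  haveI : Module.Finite L φ.range := Algebra.FormallyUnramified.finite_of_free L φ.range
  let _ : Field φ.range :=
    (isField_of_isIntegral_of_isField' (R := L) (S := φ.range) (Field.toIsField L)).toField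
  haveI : Algebra.IsSeparable L φ.range := Algebra.FormallyUnramified.isSeparable L φ.range
  have hm : a z ∈ φ.range := ⟨1 ⊗ₜ z, by
    show Algebra.TensorProduct.lift _ _ _ _ = _
    rw [Algebra.TensorProduct.lift_tmul, map_one, one_mul]
    rfl⟩
  have := Algebra.IsSeparable.isSeparable L (⟨a z, hm⟩ : φ.range)
  exact (IsSeparable.map (f := φ.range.val) Subtype.val_injective this :)

variable {C K : Type u} [CommRing C] [Field K] [Algebra C K]

/-- The point of the strict henselization hits every element separable over the fraction field of the image. -/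
theorem εH_surjective_of_separable (k : Type u) [Field k] [Algebra C k] [Algebra k K] [IsScalarTower C k K]
    [Algebra.IsSeparable k K] (hk : ∀ x : k, ∃ c d : C, algebraMap C k d ≠ 0 ∧ x * algebraMap C k d = algebraMap C k c) :
    Function.Surjective (εH C K) := by
  classical
  intro y
  let F := minpoly k y
  have hFm : F.Monic := minpoly.monic (Algebra.IsSeparable.isIntegral k y)
  choose c d hd hcd using hk
  let D : C := ∏ i ∈ F.support, d (F.coeff i)
  have hD : algebraMap C k D ≠ 0 := by
    rw [map_prod]; exact Finset.prod_ne_zero_iff.2 fun i _ => hd _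
  let A₁ := Localization.Away D
  let e : A₁ →ₐ[C] k := IsLocalization.liftAlgHom (M := Submonoid.powers D) (f := Algebra.ofId C k)
    fun ⟨_, n, hn⟩ => by
      subst hn
      show IsUnit (algebraMap C k (D ^ n))
      rw [map_pow]
      exact (isUnit_iff_ne_zero.2 hD).pow n
  have he : ∀ b, e (algebraMap C A₁ b) = algebraMap C k b := e.commutes
  have hl : F ∈ lifts e.toRingHom := by
    rw [lifts_iff_coeff_lifts]
    intro i
    by_cases hi : i ∈ F.support
    · obtain ⟨q, hq⟩ : d (F.coeff i) ∣ D := Finset.dvd_prod_of_mem _ hi
      refine ⟨algebraMap C A₁ (c (F.coeff i) * q) * IsLocalization.Away.invSelf D, ?_⟩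
      refine mul_right_cancel₀ hD ?_
      show e _ * _ = _
      rw [← he D, ← map_mul, mul_assoc, mul_comm (IsLocalization.Away.invSelf D), IsLocalization.Away.mul_invSelf,
        mul_one, he, he, map_mul, ← hcd, hq, map_mul, mul_assoc]
    · exact ⟨0, by rw [notMem_support_iff.1 hi]; exact map_zero _⟩
  obtain ⟨G, hG, -, hGm⟩ := lifts_and_natDegree_eq_and_monic hl hFm
  let P : StandardEtalePair A₁ := ⟨G, hGm, derivative G, ⟨1, 0, 1, by simp⟩⟩
  have : Algebra.Etale C A₁ := inferInstance
  let _ : Algebra C P.Ring := ((algebraMap A₁ P.Ring).comp (algebraMap C A₁)).toAlgebra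
  have : IsScalarTower C A₁ P.Ring := .of_algebraMap_eq fun _ => rfl
  have : Algebra.Etale C P.Ring := Algebra.Etale.comp C A₁ _
  let _ : Algebra A₁ K := ((algebraMap k K).comp e.toRingHom).toAlgebra
  have : IsScalarTower C A₁ K := .of_algebraMap_eq fun b => by
    show _ = algebraMap k K (e (algebraMap C A₁ b))
    rw [he, ← IsScalarTower.algebraMap_apply]
  have haev : ∀ p : A₁[X], aeval y p = aeval y (p.map e.toRingHom) := fun p => by
    rw [aeval_def, aeval_def, eval₂_map]
    rfl
  have hmap : P.HasMap y := by
    refine ⟨?_, ?_⟩
    · show aeval y G = 0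
      rw [haev, hG, minpoly.aeval]
    · show IsUnit (aeval y (derivative G))
      rw [haev, ← derivative_map, hG]
      exact isUnit_iff_ne_zero.2
        ((Algebra.IsSeparable.isSeparable k y).aeval_derivative_ne_zero (minpoly.aeval _ _))
  obtain ⟨j, f, hf⟩ := exists_idx P.Ring ((P.lift y hmap).restrictScalars C)
  refine ⟨ι j (f P.X), ?_⟩
  rw [εH_ι, ← AlgHom.comp_apply, hf, AlgHom.restrictScalars_apply, P.lift_X]

end Groth.Agent.QuotEtaleLib
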