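import Groth.Agent.QuotEtaleLib.Colim
import Groth.Agent.QuotEtaleLib.Sep
import Groth.Agent.Hensel.Idempotent
import Groth.Agent.Hensel.Lift
import Mathlib.FieldTheory.IsAlgClosed.AlgebraicClosure

/-!
Points of an integral algebra over a strict henselization, and pairs of groupoids with an étale map.
-/

set_option autoImplicit false
set_option backward.isDefEq.respectTransparency false
set_option linter.style.haveILetI false
universe u

open Groth.Agent.Henselization IsLocalRing
open scoped TensorProduct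

noncomputable section

namespace Groth.Agent.QuotEtaleLib

/-- A map of affine groupoids with cartesian squares, seen on rings. -/
structure Sq (A B A' B' : Type u) [CommRing A] [CommRing B] [CommRing A'] [CommRing B'] where
  s : A →+* B
  t : A →+* B
  s' : A' →+* B'
  t' : A' →+* B'
  f : A →+* A'
  g : B →+* B'
  comm_s : g.comp s = s'.comp f
  comm_t : g.comp t = t'.comp f
  push_s : ∀ {T : Type u} [CommRing T] (b : B →+* T) (a : A' →+* T), b.comp s = a.comp f →
    ∃ r : B' →+* T, r.comp g = b ∧ r.comp s' = a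
  uniq_s : ∀ {T : Type u} [CommRing T] (r₁ r₂ : B' →+* T), r₁.comp g = r₂.comp g → r₁.comp s' = r₂.comp s' → r₁ = r₂
  uniq_t : ∀ {T : Type u} [CommRing T] (r₁ r₂ : B' →+* T), r₁.comp g = r₂.comp g → r₁.comp t' = r₂.comp t' → r₁ = r₂
  etale : f.Etale
  finite_s : s.Finite
  isIntegral : Algebra.IsIntegral (RingHom.eqLocus s t) A
  isIntegral' : Algebra.IsIntegral (RingHom.eqLocus s' t') A'
  orbit : ∀ {k : Type u} [Field k] [IsAlgClosed k] (x₀ x₁ : A →+* k),
    (∀ a : A, s a = t a → x₀ a = x₁ a) → ∃ r : B →+* k, r.comp t = x₀ ∧ r.comp s = x₁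
  loop : ∀ {k : Type u} [Field k] [IsAlgClosed k] (r : B' →+* k),
    (r.comp g).comp s = (r.comp g).comp t → r.comp s' = r.comp t'
  trans : ∀ {k : Type u} [Field k] [IsAlgClosed k] (r₁ r₂ : B' →+* k), r₁.comp s' = r₂.comp t' →
    ∃ r : B' →+* k, r.comp t' = r₁.comp t' ∧ r.comp s' = r₂.comp s'
  symm : ∀ {k : Type u} [Field k] [IsAlgClosed k] (r : B' →+* k),
    ∃ r₁ : B' →+* k, r₁.comp t' = r.comp s' ∧ r₁.comp s' = r.comp t'
  refl : ∀ {k : Type u} [Field k] [IsAlgClosed k] (a : A' →+* k), ∃ r : B' →+* k, r.comp t' = a ∧ r.comp s' = a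

variable {C M : Type u} [CommRing C] [CommRing M] [Algebra C M] {k E : Type u} [Field k] [Field E]
  [Algebra k E] [Algebra C k] [Algebra C E] [IsScalarTower C k E]

/-- The coefficient field of the strict henselization. -/
abbrev Ksep (k E : Type u) [Field k] [Field E] [Algebra k E] : IntermediateField k E := separableClosure k E

/-- The strict henselization at the geometric point. -/
abbrev Hp (C k E : Type u) [CommRing C] [Field k] [Field E] [Algebra k E] [Algebra C k] [Algebra C E]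
    [IsScalarTower C k E] : Type u := Hz C ↥(Ksep k E)

variable (C k E) in
/-- The geometric point of the strict henselization. -/
def εE : Hp C k E →ₐ[C] E :=
  ((Ksep k E).val.restrictScalars C).comp (εH C ↥(Ksep k E))

/-- A point of an algebra extended to the strict henselization. -/
def extPt (x : M →+* E) (hx : ∀ c, x (algebraMap C M c) = algebraMap C E c) : M ⊗[C] Hp C k E →+* E :=
  (Algebra.TensorProduct.lift ({ x with commutes' := hx } : M →ₐ[C] E) (εE C k E) fun _ _ => Commute.all _ _).toRingHom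

theorem extPt_tmul (x : M →+* E) (hx : ∀ c, x (algebraMap C M c) = algebraMap C E c) (m : M) (h : Hp C k E) :
    extPt (k := k) x hx (m ⊗ₜ h) = x m * εE C k E h := Algebra.TensorProduct.lift_tmul _ _ _ _ _

theorem extPt_includeLeft (x : M →+* E) (hx : ∀ c, x (algebraMap C M c) = algebraMap C E c) (m : M) :
    extPt (k := k) x hx (m ⊗ₜ 1) = x m := by rw [extPt_tmul, map_one, mul_one]

theorem extPt_unique (r : M ⊗[C] Hp C k E →+* E) (x : M →+* E) (hx : ∀ c, x (algebraMap C M c) = algebraMap C E c)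
    (h₁ : ∀ m, r (m ⊗ₜ 1) = x m) (h₂ : ∀ h, r (1 ⊗ₜ h) = εE C k E h) : r = extPt x hx := by
  refine RingHom.ext fun z => ?_
  induction z using TensorProduct.induction_on with
  | zero => rw [map_zero, map_zero]
  | tmul m h =>
    rw [show m ⊗ₜ[C] h = (m ⊗ₜ 1) * (1 ⊗ₜ h) by rw [Algebra.TensorProduct.tmul_mul_tmul, mul_one, one_mul],
      map_mul, map_mul, h₁, h₂, extPt_includeLeft, extPt_tmul, map_one, one_mul]
  | add a b ha hb => rw [map_add, map_add, ha, hb]

theorem isIntegral_right [Algebra.IsIntegral C M] :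
    (Algebra.TensorProduct.includeRight : Hp C k E →ₐ[C] M ⊗[C] Hp C k E).toRingHom.IsIntegral := by
  intro z
  induction z using TensorProduct.induction_on with
  | zero => exact RingHom.isIntegralElem_zero _
  | tmul m h =>
    rw [show m ⊗ₜ[C] h = (m ⊗ₜ 1) * (1 ⊗ₜ h) by rw [Algebra.TensorProduct.tmul_mul_tmul, mul_one, one_mul]]
    refine RingHom.IsIntegralElem.mul _ ?_ (RingHom.isIntegralElem_map _)
    obtain ⟨p, hpm, hp⟩ := Algebra.IsIntegral.isIntegral (R := C) m
    refine ⟨p.map (algebraMap C (Hp C k E)), hpm.map _, ?_⟩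
    have h := congrArg (Algebra.TensorProduct.includeLeft : M →ₐ[C] M ⊗[C] Hp C k E) hp
    rw [map_zero, ← Polynomial.aeval_def, ← Polynomial.aeval_algHom_apply, Polynomial.aeval_def] at h
    rw [Polynomial.eval₂_map]
    refine Eq.trans (congrArg (fun φ => Polynomial.eval₂ φ (m ⊗ₜ[C] (1 : Hp C k E)) p) ?_) h
    exact (Algebra.TensorProduct.includeRight : Hp C k E →ₐ[C] M ⊗[C] Hp C k E).comp_algebraMap
  | add a b ha hb => exact ha.add _ hb

variable [IsAlgClosed E] [Algebra.IsAlgebraic k E]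
  (hk : ∀ x : k, ∃ c d : C, algebraMap C k d ≠ 0 ∧ x * algebraMap C k d = algebraMap C k c)

include hk in
omit [IsAlgClosed E] [Algebra.IsAlgebraic k E] in
theorem εH_surj : Function.Surjective (εH C ↥(Ksep k E)) :=
  εH_surjective_of_separable k hk

include hk in
theorem ker_extPt_isMaximal [Algebra.IsIntegral C M] (r : M ⊗[C] Hp C k E →+* E)
    (hr : ∀ h, r (1 ⊗ₜ h) = εE C k E h) : (RingHom.ker r).IsMaximal := by
  let inc := (Algebra.TensorProduct.includeRight : Hp C k E →ₐ[C] M ⊗[C] Hp C k E).toRingHom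
  haveI : (RingHom.ker r).IsPrime := RingHom.ker_isPrime r
  refine Ideal.isMaximal_of_isIntegral_of_isMaximal_comap' inc isIntegral_right (RingHom.ker r) ?_
  have : Ideal.comap inc (RingHom.ker r) = maximalIdeal (Hp C k E) := by
    refine Ideal.ext fun h => ?_
    rw [Ideal.mem_comap, RingHom.mem_ker, mem_maximalIdeal_iff]
    show r (1 ⊗ₜ h) = 0 ↔ _
    rw [hr]
    exact ⟨fun e => Subtype.val_injective e, fun e => congrArg Subtype.val e⟩
  rw [this]
  exact maximalIdeal.isMaximal _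

include hk in
/-- Maximal ideals of an integral algebra over the strict henselization come from geometric points. -/
theorem exists_point [Algebra.IsIntegral C M] (𝔪 : Ideal (M ⊗[C] Hp C k E)) [h𝔪 : 𝔪.IsMaximal] :
    ∃ (x : M →+* E) (hx : ∀ c, x (algebraMap C M c) = algebraMap C E c), RingHom.ker (extPt (k := k) x hx) = 𝔪 := by
  let inc := (Algebra.TensorProduct.includeRight : Hp C k E →ₐ[C] M ⊗[C] Hp C k E).toRingHom
  let q := (Ideal.Quotient.mk 𝔪).comp inc
  have hker : RingHom.ker (εH C ↥(Ksep k E)).toRingHom ≤ RingHom.ker q := fun h hh => by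
    have h1 := eq_maximalIdeal (Ideal.isMaximal_comap_of_isIntegral_of_isMaximal' inc isIntegral_right 𝔪)
    have h2 : h ∈ Ideal.comap inc 𝔪 := h1.ge ((mem_maximalIdeal_iff h).2 hh)
    exact Ideal.Quotient.eq_zero_iff_mem.2 h2
  let ψ : ↥(Ksep k E) →+* (M ⊗[C] Hp C k E) ⧸ 𝔪 :=
    RingHom.liftOfSurjective (εH C ↥(Ksep k E)).toRingHom (εH_surj hk) ⟨q, hker⟩
  have hψ : ∀ h, ψ (εH C ↥(Ksep k E) h) = q h := RingHom.liftOfRightInverse_comp_apply _ _ _ _
  letI : Field ((M ⊗[C] Hp C k E) ⧸ 𝔪) := Ideal.Quotient.field 𝔪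
  letI : Algebra ↥(Ksep k E) ((M ⊗[C] Hp C k E) ⧸ 𝔪) := ψ.toAlgebra
  haveI : Algebra.IsAlgebraic ↥(Ksep k E) ((M ⊗[C] Hp C k E) ⧸ 𝔪) := by
    refine ⟨fun y => IsIntegral.isAlgebraic ?_⟩
    obtain ⟨z, rfl⟩ := Ideal.Quotient.mk_surjective y
    obtain ⟨p, hpm, hp⟩ := isIntegral_right z
    refine ⟨p.map (εH C ↥(Ksep k E)).toRingHom, hpm.map _, ?_⟩
    rw [Polynomial.eval₂_map, show (algebraMap ↥(Ksep k E) ((M ⊗[C] Hp C k E) ⧸ 𝔪)).comp (εH C ↥(Ksep k E)).toRingHom =
      (Ideal.Quotient.mk 𝔪).comp inc from RingHom.ext hψ, ← Polynomial.hom_eval₂, hp, map_zero]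
  let j : (M ⊗[C] Hp C k E) ⧸ 𝔪 →ₐ[↥(Ksep k E)] E := IsAlgClosed.lift
  let r : M ⊗[C] Hp C k E →+* E := j.toRingHom.comp (Ideal.Quotient.mk 𝔪)
  have hr : ∀ h, r (1 ⊗ₜ h) = εE C k E h := fun h => by
    show j (q h) = _
    rw [← hψ, show ψ (εH C ↥(Ksep k E) h) = algebraMap _ _ (εH C ↥(Ksep k E) h) from rfl, j.commutes]
    rfl
  let x : M →+* E := r.comp Algebra.TensorProduct.includeLeftRingHom
  have hx : ∀ c, x (algebraMap C M c) = algebraMap C E c := fun c => by
    show r ((algebraMap C M c) ⊗ₜ 1) = _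
    rw [show (algebraMap C M c) ⊗ₜ[C] (1 : Hp C k E) = 1 ⊗ₜ algebraMap C (Hp C k E) c by
      rw [Algebra.algebraMap_eq_smul_one, TensorProduct.smul_tmul, Algebra.algebraMap_eq_smul_one], hr]
    exact (εE C k E).commutes c
  refine ⟨x, hx, ?_⟩
  rw [← extPt_unique r x hx (fun _ => rfl) hr]
  refine Ideal.ext fun z => ?_
  rw [RingHom.mem_ker, show r z = j (Ideal.Quotient.mk 𝔪 z) from rfl,
    map_eq_zero_iff j j.toRingHom.injective, Ideal.Quotient.eq_zero_iff_mem]

include hk in
/-- Points with the same kernel are equal. -/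
theorem extPt_injective (x x' : M →+* E) (hx : ∀ c, x (algebraMap C M c) = algebraMap C E c)
    (hx' : ∀ c, x' (algebraMap C M c) = algebraMap C E c)
    (h : RingHom.ker (extPt (k := k) x hx) = RingHom.ker (extPt (k := k) x' hx')) : x = x' := by
  refine RingHom.ext fun m => ?_
  let q := ringExpChar ↥(Ksep k E)
  haveI : ExpChar E q := expChar_of_injective_algebraMap (algebraMap ↥(Ksep k E) E).injective q
  obtain ⟨n, ⟨y, hy⟩⟩ := IsPurelyInseparable.pow_mem ↥(Ksep k E) q (x m)
  obtain ⟨η, rfl⟩ := εH_surj hk y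
  have h1 : (m ⊗ₜ 1) ^ q ^ n - 1 ⊗ₜ η ∈ RingHom.ker (extPt (k := k) x hx) := by
    rw [RingHom.mem_ker, map_sub, map_pow, extPt_includeLeft, extPt_tmul, map_one, one_mul, ← hy, sub_eq_zero]
    rfl
  rw [h, RingHom.mem_ker, map_sub, map_pow, extPt_includeLeft, extPt_tmul, map_one, one_mul, sub_eq_zero] at h1
  refine iterateFrobenius_inj E q n ?_
  rw [iterateFrobenius_def, iterateFrobenius_def, h1, ← hy]
  rfl

include hk in
/-- Values of an étale algebra at a point lie in the image of the extended point. -/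
theorem mem_range_extPt [Algebra.IsIntegral C M] {M' : Type u} [CommRing M'] [Algebra M M'] [Algebra.Etale M M']
    (x : M →+* E) (hx : ∀ c, x (algebraMap C M c) = algebraMap C E c) (a : M' →+* E)
    (ha : ∀ m, a (algebraMap M M' m) = x m) (z : M') : a z ∈ (extPt (k := k) x hx).range := by
  have hint : ∀ m : M, IsAlgebraic ↥(Ksep k E) (x m) := fun m =>
    (Algebra.IsAlgebraic.isAlgebraic (R := k) (x m)).tower_top _
  let L : IntermediateField ↥(Ksep k E) E := IntermediateField.adjoin ↥(Ksep k E) (Set.range x)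
  let xL : M →+* ↥L := RingHom.codRestrict x L fun m => IntermediateField.subset_adjoin _ _ ⟨m, rfl⟩
  have hs : IsSeparable ↥L (a z) := isSeparable_apply ↥L xL a ha z
  haveI : IsPurelyInseparable ↥L E := IsPurelyInseparable.tower_top ↥(Ksep k E) ↥L E
  obtain ⟨⟨y, hy⟩, hyz⟩ := IsPurelyInseparable.inseparable' (F := ↥L) (a z) hs
  have hy' : y ∈ Algebra.adjoin ↥(Ksep k E) (Set.range x) := by
    rw [← IntermediateField.adjoin_toSubalgebra_of_isAlgebraic (fun w hw => by obtain ⟨m, rfl⟩ := hw; exact hint m)]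
    exact hy
  rw [← hyz]
  show y ∈ _
  refine Algebra.adjoin_induction (p := fun w _ => w ∈ (extPt (k := k) x hx).range) ?_ ?_ ?_ ?_ hy'
  · rintro _ ⟨m, rfl⟩
    exact ⟨m ⊗ₜ 1, extPt_includeLeft x hx m⟩
  · intro c
    obtain ⟨η, rfl⟩ := εH_surj hk c
    refine ⟨1 ⊗ₜ η, ?_⟩
    rw [extPt_tmul, map_one, one_mul]
    rfl
  · exact fun _ _ _ _ h1 h2 => add_mem h1 h2
  · exact fun _ _ _ _ h1 h2 => mul_mem h1 h2

end Groth.Agent.QuotEtaleLib
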