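import Groth.Agent.QuotEtaleLib.Points
import Mathlib.RingTheory.Etale.Basic

/-!
An invariant section of an étale map of groupoids over an étale neighbourhood of a point of the quotient.
-/

set_option autoImplicit false
set_option backward.isDefEq.respectTransparency false
set_option linter.style.haveILetI false
universe u

open Groth.Agent.Henselization IsLocalRing
open scoped TensorProduct

noncomputable section

namespace Groth.Agent.QuotEtaleLib

variable {A B A' B' : Type u} [CommRing A] [CommRing B] [CommRing A'] [CommRing B']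

/-- The arrows over the point of the target with a fixed source lift. -/
def Sq.Rel (D : Sq A B A' B') {k : Type u} [Field k] (a₀ : A' →+* k) (a : A' →+* k) : Prop :=
  ∃ r : B' →+* k, r.comp D.s' = a₀ ∧ r.comp D.t' = a

variable (D : Sq A B A' B') {C : Type u} [CommRing C] [Algebra C A] [Algebra C B]

section Field

variable {k : Type u} [Field k] [IsAlgClosed k] [Algebra C k]

theorem Sq.exists_rel (hC : ∀ a : A, D.s a = D.t a → a ∈ (algebraMap C A).range) (a₀ : A' →+* k)
    (h₀ : ∀ c, a₀ (D.f (algebraMap C A c)) = algebraMap C k c) (x : A →+* k)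
    (hx : ∀ c, x (algebraMap C A c) = algebraMap C k c) : ∃ a, a.comp D.f = x ∧ D.Rel a₀ a := by
  obtain ⟨r, hr₁, hr₂⟩ := D.orbit x (a₀.comp D.f) fun a ha => by
    obtain ⟨c, rfl⟩ := hC a ha
    rw [hx]; exact (h₀ c).symm
  obtain ⟨r', hr'g, hr's⟩ := D.push_s r a₀ hr₂
  refine ⟨r'.comp D.t', ?_, r', hr's, rfl⟩
  rw [RingHom.comp_assoc, ← D.comm_t, ← RingHom.comp_assoc, hr'g, hr₁]

theorem Sq.rel_unique (a₀ a₁ a₂ : A' →+* k) (h₁ : D.Rel a₀ a₁) (h₂ : D.Rel a₀ a₂)
    (h : a₁.comp D.f = a₂.comp D.f) : a₁ = a₂ := by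
  obtain ⟨r₁, hr₁s, rfl⟩ := h₁
  obtain ⟨r₂, hr₂s, rfl⟩ := h₂
  obtain ⟨r₃, hr₃t, hr₃s⟩ := D.symm r₁
  obtain ⟨r, hrt, hrs⟩ := D.trans r₂ r₃ (by rw [hr₂s, hr₃t, hr₁s])
  have hl := D.loop r (by
    rw [RingHom.comp_assoc, RingHom.comp_assoc, D.comm_s, D.comm_t, ← RingHom.comp_assoc, ← RingHom.comp_assoc,
      hrs, hr₃s, hrt, h])
  rw [← hr₃s, ← hrs, hl, hrt]

theorem Sq.finite_points [Algebra.IsIntegral C A] (hC : ∀ a : A, D.s a = D.t a → a ∈ (algebraMap C A).range)
    (x₀ : A →+* k) (h₀ : ∀ c, x₀ (algebraMap C A c) = algebraMap C k c) :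
    Finite {x : A →+* k // ∀ c, x (algebraMap C A c) = algebraMap C k c} := by
  have hfin : Finite {r : B →+* k // r.comp D.s = x₀} := by
    let _ : Algebra A B := D.s.toAlgebra
    let _ : Algebra A k := x₀.toAlgebra
    haveI : Module.Finite A B := D.finite_s
    have : Finite (k ⊗[A] B →ₐ[k] k) := inferInstance
    refine Finite.of_injective (fun r : {r : B →+* k // r.comp D.s = x₀} =>
      (Algebra.TensorProduct.lift (Algebra.ofId k k)
        { r.1 with commutes' := fun a => RingHom.congr_fun r.2 a } fun _ _ => Commute.all _ _)) ?_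
    intro r r' e
    refine Subtype.ext (RingHom.ext fun y => ?_)
    have := DFunLike.congr_fun e (1 ⊗ₜ y)
    rw [Algebra.TensorProduct.lift_tmul, Algebra.TensorProduct.lift_tmul, map_one, one_mul, one_mul] at this
    exact this
  choose r hr₁ hr₂ using fun x : {x : A →+* k // ∀ c, x (algebraMap C A c) = algebraMap C k c} =>
    D.orbit x.1 x₀ fun a ha => by
      obtain ⟨c, rfl⟩ := hC a ha
      rw [x.2, h₀]
  exact Finite.of_injective (fun x => (⟨r x, hr₂ x⟩ : {r : B →+* k // r.comp D.s = x₀})) fun x x' e =>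
    Subtype.ext (by
      have : r x = r x' := congrArg Subtype.val e
      rw [← hr₁ x, ← hr₁ x', this])

end Field

variable [Algebra.IsIntegral C A] [Algebra.IsIntegral C B]
  (hCs : ∀ c, D.s (algebraMap C A c) = algebraMap C B c) (hCt : ∀ c, D.t (algebraMap C A c) = algebraMap C B c)
  (hC : ∀ a : A, D.s a = D.t a → a ∈ (algebraMap C A).range)
  {k E : Type u} [Field k] [Field E] [Algebra k E] [Algebra C k] [Algebra C E] [IsScalarTower C k E]
  [IsAlgClosed E] [Algebra.IsAlgebraic k E]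
  (hk : ∀ x : k, ∃ c d : C, algebraMap C k d ≠ 0 ∧ x * algebraMap C k d = algebraMap C k c)

include hC hk in
set_option maxHeartbeats 800000 in
/-- The section over the strict henselization. -/
theorem Sq.exists_lift (a₀ : A' →+* E) (h₀ : ∀ c, a₀ (D.f (algebraMap C A c)) = algebraMap C E c) :
    letI := D.f.toAlgebra
    ∃ τ : A' →ₐ[A] A ⊗[C] Hp C k E, ∀ (x : A →+* E) (hx : ∀ c, x (algebraMap C A c) = algebraMap C E c),
      ((extPt (k := k) x hx).comp τ.toRingHom).comp D.f = x ∧ D.Rel a₀ ((extPt (k := k) x hx).comp τ.toRingHom) := by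
  letI := D.f.toAlgebra
  haveI : Algebra.Etale A A' := RingHom.etale_algebraMap.1 (by rw [RingHom.algebraMap_toAlgebra]; exact D.etale)
  let X := {x : A →+* E // ∀ c, x (algebraMap C A c) = algebraMap C E c}
  haveI : Finite X := D.finite_points hC (a₀.comp D.f) h₀
  let AH := A ⊗[C] Hp C k E
  let m : X → Ideal AH := fun x => RingHom.ker (extPt (k := k) x.1 x.2)
  have hm : ∀ x, (m x).IsMaximal := fun x => ker_extPt_isMaximal hk _ fun h => by rw [extPt_tmul, map_one, one_mul]
  have hcop : Pairwise (Function.onFun IsCoprime m) := fun x y hxy => by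
    refine Ideal.isCoprime_iff_sup_eq.2 ((hm x).coprime_of_ne (hm y) fun e => hxy ?_)
    exact Subtype.ext (extPt_injective hk x.1 y.1 x.2 y.2 e)
  choose O hO₁ hO₂ using fun x : X => D.exists_rel hC a₀ h₀ x.1 x.2
  have hOf : ∀ x a, O x (D.f a) = x.1 a := fun x a => RingHom.congr_fun (hO₁ x) a
  choose pre hpre using fun (x : X) (z : A') =>
    mem_range_extPt hk x.1 x.2 (M' := A') (O x) (fun a => hOf x a) z
  let e := Ideal.quotientInfRingEquivPiQuotient m hcop
  let J : Ideal AH := ⨅ x, m x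
  have hmk : ∀ (x : X) (u v : AH), extPt (k := k) x.1 x.2 u = extPt (k := k) x.1 x.2 v →
      Ideal.Quotient.mk (m x) u = Ideal.Quotient.mk (m x) v := fun x u v h =>
    Ideal.Quotient.eq.2 (by rw [RingHom.mem_ker, map_sub, h, sub_self])
  let π : A' →+* ∀ x, AH ⧸ m x :=
    { toFun z x := Ideal.Quotient.mk (m x) (pre x z)
      map_one' := funext fun x => (hmk x _ 1 (by rw [hpre, map_one, map_one])).trans (map_one _)
      map_mul' a b := funext fun x => (hmk x _ (pre x a * pre x b)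
        (by rw [map_mul (extPt (k := k) x.1 x.2), hpre, hpre, hpre, map_mul])).trans (map_mul _ _ _)
      map_zero' := funext fun x => (hmk x _ 0 (by rw [hpre, map_zero, map_zero])).trans (map_zero _)
      map_add' a b := funext fun x => (hmk x _ (pre x a + pre x b)
        (by rw [map_add (extPt (k := k) x.1 x.2), hpre, hpre, hpre, map_add])).trans (map_add _ _ _) }
  let σ : A' →ₐ[A] AH ⧸ J :=
    { e.symm.toRingHom.comp π with
      commutes' a := by
        refine e.symm_apply_eq.2 (funext fun x => ?_)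
        show Ideal.Quotient.mk (m x) (pre x (D.f a)) = Ideal.Quotient.mk (m x) (a ⊗ₜ 1)
        exact hmk x _ _ (by rw [hpre, hOf, extPt_includeLeft]) }
  have hJle : J ≤ ((maximalIdeal (Hp C k E)).map
      (Algebra.TensorProduct.includeRight : Hp C k E →ₐ[C] AH).toRingHom).radical := by
    rw [Ideal.radical_eq_sInf]
    refine le_sInf fun P ⟨hP, hPp⟩ => ?_
    haveI := hPp
    let inc := (Algebra.TensorProduct.includeRight : Hp C k E →ₐ[C] AH).toRingHom
    have hcomap : Ideal.comap inc P = maximalIdeal (Hp C k E) :=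
      ((maximalIdeal.isMaximal _).eq_of_le (Ideal.IsPrime.comap inc).ne_top (Ideal.map_le_iff_le_comap.1 hP)).symm
    haveI : P.IsMaximal := Ideal.isMaximal_of_isIntegral_of_isMaximal_comap' inc isIntegral_right P
      (by rw [hcomap]; exact maximalIdeal.isMaximal _)
    obtain ⟨x, hx, hker⟩ := exists_point hk P
    exact (iInf_le m ⟨x, hx⟩).trans hker.le
  letI : Algebra (Hp C k E) AH := (Algebra.TensorProduct.includeRight : Hp C k E →ₐ[C] AH).toRingHom.toAlgebra
  haveI : Algebra.IsIntegral (Hp C k E) AH := ⟨fun z => isIntegral_right z⟩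
  haveI : HenselianRing (Hp C k E) (maximalIdeal (Hp C k E)) := Hensel.henselianRing_maximalIdeal_iff.2 inferInstance
  haveI := Hensel.of_isIntegral (I := maximalIdeal (Hp C k E)) AH
  haveI : HenselianRing AH J := Hensel.of_le_radical hJle
  obtain ⟨τ, hτ⟩ := Hensel.exists_algHom_of_etale (A := AH) (I := J) σ
  refine ⟨τ, fun x hx => ?_⟩
  have key : (extPt (k := k) x hx).comp τ.toRingHom = O ⟨x, hx⟩ := RingHom.ext fun z => by
    have h1 : e (Ideal.Quotient.mk J (τ z)) ⟨x, hx⟩ = Ideal.Quotient.mk _ (pre ⟨x, hx⟩ z) := by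
      rw [show Ideal.Quotient.mk J (τ z) = e.symm (π z) from AlgHom.congr_fun hτ z, RingEquiv.apply_symm_apply]
      rfl
    have h2 : Ideal.Quotient.mk (m ⟨x, hx⟩) (τ z) = Ideal.Quotient.mk _ (pre ⟨x, hx⟩ z) := h1
    rw [Ideal.Quotient.eq, RingHom.mem_ker, map_sub, sub_eq_zero, hpre] at h2
    exact h2
  rw [key]
  exact ⟨hO₁ _, hO₂ _⟩

variable (sA tA : A →ₐ[C] B)

include hC hk in
set_option maxHeartbeats 800000 in
/-- The section is invariant. -/
theorem Sq.lift_invariant (hsA : ∀ a, sA a = D.s a) (htA : ∀ a, tA a = D.t a) (a₀ : A' →+* E)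
    (τ : A' →+* A ⊗[C] Hp C k E) (hτa : ∀ a, τ (D.f a) = a ⊗ₜ 1)
    (hτ : ∀ (x : A →+* E) (hx : ∀ c, x (algebraMap C A c) = algebraMap C E c),
      ((extPt (k := k) x hx).comp τ).comp D.f = x ∧ D.Rel a₀ ((extPt (k := k) x hx).comp τ))
    (r : B' →+* B ⊗[C] Hp C k E) (hrg : r.comp D.g = Algebra.TensorProduct.includeLeftRingHom)
    (hrs : r.comp D.s' = (Algebra.TensorProduct.map sA (AlgHom.id C (Hp C k E))).toRingHom.comp τ) :
    r.comp D.t' = (Algebra.TensorProduct.map tA (AlgHom.id C (Hp C k E))).toRingHom.comp τ := by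
  letI := D.f.toAlgebra
  haveI : Algebra.Etale A A' := RingHom.etale_algebraMap.1 (by rw [RingHom.algebraMap_toAlgebra]; exact D.etale)
  letI : Algebra A (B ⊗[C] Hp C k E) :=
    ((Algebra.TensorProduct.map tA (AlgHom.id C (Hp C k E))).toRingHom.comp (algebraMap A (A ⊗[C] Hp C k E))).toAlgebra
  have hf : ∀ a, r (D.t' (D.f a)) = Algebra.TensorProduct.map tA (AlgHom.id C _) (a ⊗ₜ 1) := fun a => by
    rw [← RingHom.comp_apply D.t', ← D.comm_t, RingHom.comp_apply, ← RingHom.comp_apply r, hrg,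
      Algebra.TensorProduct.map_tmul, htA, map_one]
    rfl
  let φ₁ : A' →ₐ[A] B ⊗[C] Hp C k E := { r.comp D.t' with commutes' := hf }
  let φ₂ : A' →ₐ[A] B ⊗[C] Hp C k E :=
    { (Algebra.TensorProduct.map tA (AlgHom.id C (Hp C k E))).toRingHom.comp τ with
      commutes' := fun a => congrArg _ (hτa a) }
  suffices h : φ₁ = φ₂ from congrArg AlgHom.toRingHom h
  refine Hensel.algHom_unique (I := Ideal.jacobson ⊥) le_rfl fun z => ?_
  rw [Ideal.jacobson, Ideal.mem_sInf]
  rintro 𝔫 ⟨-, h𝔫⟩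
  obtain ⟨w, hw, rfl⟩ := exists_point hk 𝔫
  let x : A →+* E := w.comp sA.toRingHom
  let y : A →+* E := w.comp tA.toRingHom
  have hx : ∀ c, x (algebraMap C A c) = algebraMap C E c := fun c =>
    (congrArg w (sA.commutes c)).trans (hw c)
  have hy : ∀ c, y (algebraMap C A c) = algebraMap C E c := fun c =>
    (congrArg w (tA.commutes c)).trans (hw c)
  have hsx : (extPt (k := k) w hw).comp (Algebra.TensorProduct.map sA (AlgHom.id C (Hp C k E))).toRingHom =
      extPt (k := k) x hx := extPt_unique _ _ _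
    (fun a => extPt_includeLeft w hw (sA a))
    (fun η => by
      show extPt (k := k) w hw (sA 1 ⊗ₜ[C] η) = _
      rw [extPt_tmul, map_one, map_one, one_mul])
  have hty : (extPt (k := k) w hw).comp (Algebra.TensorProduct.map tA (AlgHom.id C (Hp C k E))).toRingHom =
      extPt (k := k) y hy := extPt_unique _ _ _
    (fun a => extPt_includeLeft w hw (tA a))
    (fun η => by
      show extPt (k := k) w hw (tA 1 ⊗ₜ[C] η) = _
      rw [extPt_tmul, map_one, map_one, one_mul])
  let r' : B' →+* E := (extPt (k := k) w hw).comp r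
  have hr's : r'.comp D.s' = (extPt (k := k) x hx).comp τ := by
    rw [RingHom.comp_assoc, hrs, ← RingHom.comp_assoc, hsx]
  obtain ⟨r₀, hr₀s, hr₀t⟩ := (hτ x hx).2
  obtain ⟨r₂, hr₂t, hr₂s⟩ := D.trans r' r₀ (by rw [hr's, hr₀t])
  have hrel : D.Rel a₀ (r'.comp D.t') := ⟨r₂, hr₂s.trans hr₀s, hr₂t⟩
  have hty' : (r'.comp D.t').comp D.f = y := RingHom.ext fun a => by
    show extPt (k := k) w hw (r (D.t' (D.f a))) = _
    rw [hf]
    exact (RingHom.congr_fun hty (a ⊗ₜ 1)).trans (extPt_includeLeft y hy a)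
  have := D.rel_unique a₀ _ _ hrel (hτ y hy).2 (hty'.trans (hτ y hy).1.symm)
  rw [RingHom.mem_ker, map_sub, sub_eq_zero]
  exact (RingHom.congr_fun this z).trans (RingHom.congr_fun hty (τ z)).symm

include hC hk in
set_option maxHeartbeats 800000 in
/-- An invariant section over an étale neighbourhood. -/
theorem Sq.exists_nbhd (hsA : ∀ a, sA a = D.s a) (htA : ∀ a, tA a = D.t a) (a₀ : A' →+* E)
    (h₀ : ∀ c, a₀ (D.f (algebraMap C A c)) = algebraMap C E c) :
    ∃ (C₁ : Type u) (_ : CommRing C₁) (_ : Algebra C C₁) (_ : Algebra.Etale C C₁) (ε : C₁ →ₐ[C] E)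
      (τ : A' →+* A ⊗[C] C₁) (r : B' →+* B ⊗[C] C₁),
      (∀ a, τ (D.f a) = a ⊗ₜ 1) ∧ (∀ b, r (D.g b) = b ⊗ₜ 1) ∧
      (∀ z, r (D.s' z) = Algebra.TensorProduct.map sA (AlgHom.id C C₁) (τ z)) ∧
      (∀ z, r (D.t' z) = Algebra.TensorProduct.map tA (AlgHom.id C C₁) (τ z)) ∧
      (∀ z, Algebra.TensorProduct.lift ({ a₀.comp D.f with commutes' := h₀ } : A →ₐ[C] E) ε
        (fun _ _ => Commute.all _ _) (τ z) = a₀ z) := by
  letI := D.f.toAlgebra
  haveI : Algebra.Etale A A' := RingHom.etale_algebraMap.1 (by rw [RingHom.algebraMap_toAlgebra]; exact D.etale)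
  obtain ⟨τ, hτ⟩ := D.exists_lift hC hk a₀ h₀
  have hfix : (extPt (k := k) (a₀.comp D.f) h₀).comp τ.toRingHom = a₀ := by
    obtain ⟨r₁, hr₁t, hr₁s⟩ := D.refl a₀
    exact D.rel_unique a₀ _ _ (hτ _ h₀).2 ⟨r₁, hr₁s, hr₁t⟩ (hτ _ h₀).1
  obtain ⟨X, τ₁, hτ₁⟩ := exists_stage A τ
  obtain ⟨r₁, hr₁g, hr₁s⟩ := D.push_s (T := B ⊗[C] X.idx.S) Algebra.TensorProduct.includeLeftRingHom
    ((Algebra.TensorProduct.map sA (AlgHom.id C X.idx.S)).toRingHom.comp τ₁.toRingHom) (RingHom.ext fun a => by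
      show (D.s a) ⊗ₜ 1 = Algebra.TensorProduct.map sA (AlgHom.id C X.idx.S) (τ₁ (algebraMap A A' a))
      rw [τ₁.commutes, Algebra.TensorProduct.algebraMap_apply, Algebra.TensorProduct.map_tmul, hsA, map_one]
      rfl)
  have hnat : ∀ (φ : A →ₐ[C] B) (z : A ⊗[C] X.idx.S), ιT B X (Algebra.TensorProduct.map φ (AlgHom.id C _) z) =
      Algebra.TensorProduct.map φ (AlgHom.id C _) (ιT A X z) := by
    intro φ z
    induction z using TensorProduct.induction_on with
    | zero => simp only [map_zero]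
    | tmul a x => rfl
    | add a b ha hb => simp only [map_add, ha, hb]
  have hinv := D.lift_invariant hC hk sA tA hsA htA a₀ τ.toRingHom (fun a => τ.commutes a) hτ
    ((ιT B X).toRingHom.comp r₁)
    (RingHom.ext fun b => (congrArg _ (RingHom.congr_fun hr₁g b)).trans (congrArg (fun y => b ⊗ₜ[C] y) (map_one (ιS X))))
    (RingHom.ext fun z => ((congrArg _ (RingHom.congr_fun hr₁s z)).trans (hnat sA _)).trans
      (congrArg _ (AlgHom.congr_fun hτ₁ z)))
  obtain ⟨Y, φ, hφ⟩ := exists_stage_eq (A := B) (A' := A') D.t X (r₁.comp D.t')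
    ((Algebra.TensorProduct.map tA (AlgHom.id C X.idx.S)).toRingHom.comp τ₁.toRingHom)
    (fun a => by
      show r₁ (D.t' (D.f a)) = _
      rw [← RingHom.comp_apply D.t', ← D.comm_t, RingHom.comp_apply, ← RingHom.comp_apply r₁, hr₁g]
      rfl)
    (fun a => by
      show Algebra.TensorProduct.map tA (AlgHom.id C X.idx.S) (τ₁ (algebraMap A A' a)) = _
      rw [τ₁.commutes, Algebra.TensorProduct.algebraMap_apply, Algebra.TensorProduct.map_tmul, htA, map_one]
      rfl)
    (fun z => ((RingHom.congr_fun hinv z).trans (congrArg (Algebra.TensorProduct.map tA (AlgHom.id C (Hp C k E)))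
      (AlgHom.congr_fun hτ₁ z).symm)).trans (hnat tA _).symm)
  have hcm : ∀ (ψ : A →ₐ[C] B) (z : A ⊗[C] X.idx.S),
      Algebra.TensorProduct.map (AlgHom.id B B) φ.1 (Algebra.TensorProduct.map ψ (AlgHom.id C _) z) =
      Algebra.TensorProduct.map ψ (AlgHom.id C _) (Algebra.TensorProduct.map (AlgHom.id A A) φ.1 z) := by
    intro ψ z
    induction z using TensorProduct.induction_on with
    | zero => simp only [map_zero]
    | tmul a x => rfl
    | add a b ha hb => simp only [map_add, ha, hb]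
  refine ⟨Y.idx.S, inferInstance, inferInstance, inferInstance,
    ((Ksep k E).val.restrictScalars C).comp Y.idx.pt,
    (Algebra.TensorProduct.map (AlgHom.id A A) φ.1).toRingHom.comp τ₁.toRingHom,
    (Algebra.TensorProduct.map (AlgHom.id B B) φ.1).toRingHom.comp r₁,
    fun a => ?_, fun b => ?_, fun z => ?_, fun z => (hφ z).trans (hcm tA _), fun z => ?_⟩
  · show Algebra.TensorProduct.map (AlgHom.id A A) φ.1 (τ₁ (algebraMap A A' a)) = _
    rw [τ₁.commutes, AlgHom.commutes]
    rfl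
  · show Algebra.TensorProduct.map (AlgHom.id B B) φ.1 (r₁ (D.g b)) = _
    rw [← RingHom.comp_apply r₁, hr₁g]
    exact congrArg (fun y => b ⊗ₜ[C] y) (map_one φ.1)
  · exact (congrArg _ (RingHom.congr_fun hr₁s z)).trans (hcm sA _)
  · refine Eq.trans ?_ (RingHom.congr_fun hfix z)
    show _ = extPt (k := k) _ h₀ (τ z)
    rw [← AlgHom.congr_fun hτ₁ z]
    show Algebra.TensorProduct.lift _ _ _ (Algebra.TensorProduct.map (AlgHom.id A A) φ.1 (τ₁ z)) =
      extPt (k := k) _ h₀ (ιT A X (τ₁ z))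
    induction τ₁ z using TensorProduct.induction_on with
    | zero => simp only [map_zero]
    | tmul a x =>
      rw [Algebra.TensorProduct.map_tmul, Algebra.TensorProduct.lift_tmul, ιT_tmul, extPt_tmul]
      refine congrArg (a₀ (D.f a) * ·) ?_
      show ((Y.idx.pt (φ.1 x) : ↥(Ksep k E)) : E) = ((εH C ↥(Ksep k E) (ιS X x) : ↥(Ksep k E)) : E)
      rw [εH_ιS, ← AlgHom.comp_apply, φ.2]
    | add a b ha hb => simp only [map_add, ha, hb]

end Groth.Agent.QuotEtaleLib
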